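import Mathlib

/-!
Polynomial functions on `ZMod p` with values in a field of characteristic `p`: the
translation-invariant subspaces of `ZMod p → K` are the spaces of polynomial functions of
degree `< r`; orthogonality of these spaces under the standard pairing.
-/

set_option autoImplicit false
set_option linter.style.haveILetI false

namespace Cfsg.Agent.H32

open Polynomial

variable {p : ℕ} [Fact p.Prime] {K : Type*} [Field K] [CharP K p]

/-- The inclusion `ZMod p → K`. -/
noncomputable abbrev incl (p : ℕ) (K : Type*) [Field K] [CharP K p] : ZMod p →+* K :=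
  ZMod.castHom (dvd_refl p) K

theorem incl_injective : Function.Injective (incl p K) := RingHom.injective _

/-- Evaluation of polynomials on the prime field. -/
noncomputable def polyEval (p : ℕ) (K : Type*) [Field K] [CharP K p] :
    K[X] →ₗ[K] (ZMod p → K) :=
  LinearMap.pi fun j => Polynomial.leval (incl p K j)

theorem polyEval_apply (P : K[X]) (j : ZMod p) : polyEval p K P j = P.eval (incl p K j) := rfl

theorem polyEval_injOn {P : K[X]} (hP : P.degree < (p : ℕ)) (h : polyEval p K P = 0) : P = 0 := by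
  classical
  refine eq_zero_of_degree_lt_of_eval_index_eq_zero (s := (Finset.univ : Finset (ZMod p)))
    (v := incl p K) (f := P) (incl_injective.injOn) ?_ (fun j _ => congrFun h j)
  simpa using hP

/-- Polynomial functions of degree `< r`. -/
noncomputable def polySub (p : ℕ) (K : Type*) [Field K] [CharP K p] (r : ℕ) :
    Submodule K (ZMod p → K) :=
  (degreeLT K r).map (polyEval p K)

theorem mem_polySub {r : ℕ} {f : ZMod p → K} :
    f ∈ polySub p K r ↔ ∃ P : K[X], P.degree < r ∧ f = polyEval p K P := by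
  simp only [polySub, Submodule.mem_map, mem_degreeLT, eq_comm]

theorem polySub_mono {r s : ℕ} (h : r ≤ s) : polySub p K r ≤ polySub p K s :=
  Submodule.map_mono (degreeLT_mono h)

theorem finrank_polySub {r : ℕ} (hr : r ≤ p) : Module.finrank K (polySub p K r) = r := by
  let φ : degreeLT K r →ₗ[K] (ZMod p → K) := (polyEval p K).comp (degreeLT K r).subtype
  have hinj : Function.Injective φ := by
    rw [injective_iff_map_eq_zero]
    rintro ⟨P, hP⟩ h
    exact Subtype.ext (polyEval_injOn (lt_of_lt_of_le (mem_degreeLT.mp hP)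
      (by exact_mod_cast hr)) h)
  have he : LinearMap.range φ = polySub p K r := by
    rw [LinearMap.range_comp, Submodule.range_subtype]; rfl
  rw [← he, LinearMap.finrank_range_of_inj hinj, (degreeLTEquiv K r).finrank_eq,
    Module.finrank_fin_fun]

theorem polySub_card : polySub p K p = ⊤ := by
  apply Submodule.eq_top_of_finrank_eq
  rw [finrank_polySub le_rfl, Module.finrank_fintype_fun_eq_card, ZMod.card]

theorem exists_poly (f : ZMod p → K) : ∃ P : K[X], P.degree < p ∧ f = polyEval p K P :=
  mem_polySub.mp (polySub_card (p := p) (K := K) ▸ Submodule.mem_top)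

/-- The translate `f ↦ f (· + 1)` on polynomials. -/
theorem polyEval_taylor (P : K[X]) (j : ZMod p) :
    polyEval p K (taylor 1 P) j = polyEval p K P (j + 1) := by
  simp [polyEval_apply, taylor_apply]

/-- The difference operator lowers the degree by exactly one. -/
theorem taylor_sub_self {P : K[X]} {d : ℕ} (hd : P.degree < (d + 2 : ℕ)) :
    (taylor 1 P - P).degree < (d + 1 : ℕ) ∧
      (taylor 1 P - P).coeff d = (d + 1 : ℕ) * P.coeff (d + 1) := by
  have hcoeff : ∀ n, d ≤ n → (taylor 1 P - P).coeff n = (n + 1 : ℕ) * P.coeff (n + 1) := by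
    intro n hn
    rw [coeff_sub, taylor_coeff]
    have hdeg : (hasseDeriv n P).natDegree < 2 := by
      refine lt_of_le_of_lt (natDegree_hasseDeriv_le P n) ?_
      have hP : P.natDegree < d + 2 := by
        rcases eq_or_ne P 0 with rfl | hP
        · simp
        · exact (natDegree_lt_iff_degree_lt hP).mpr hd
      omega
    rw [eval_eq_sum_range' hdeg]
    simp [Finset.sum_range_succ, hasseDeriv_coeff, add_comm 1 n]
  refine ⟨?_, hcoeff d le_rfl⟩
  rw [degree_lt_iff_coeff_zero]
  intro n hn
  have hn' : d + 1 ≤ n := by exact_mod_cast hn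
  rw [hcoeff n (by omega), coeff_eq_zero_of_degree_lt, mul_zero]
  exact lt_of_lt_of_le hd (by exact_mod_cast (show d + 2 ≤ n + 1 by omega))

theorem exists_eq_polySub_of_shift {W : Submodule K (ZMod p → K)}
    (hW : ∀ f ∈ W, (fun j => f (j + 1)) ∈ W) : ∃ r ≤ p, W = polySub p K r := by
  classical
  have hex : ∃ r, W ≤ polySub p K r := ⟨p, polySub_card (p := p) (K := K) ▸ le_top⟩
  have hrp : Nat.find hex ≤ p := Nat.find_min' hex (polySub_card (p := p) (K := K) ▸ le_top)
  refine ⟨Nat.find hex, hrp, le_antisymm (Nat.find_spec hex) ?_⟩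
  -- the degrees occurring in `W`
  have hdown : ∀ d, d + 2 ≤ p → ∀ P : K[X], P.degree < (d + 2 : ℕ) → P.coeff (d + 1) ≠ 0 →
      polyEval p K P ∈ W → ∃ Q : K[X], Q.degree < (d + 1 : ℕ) ∧ Q.coeff d ≠ 0 ∧
        polyEval p K Q ∈ W := by
    intro d hd P hP hc hPW
    obtain ⟨h1, h2⟩ := taylor_sub_self hP
    refine ⟨_, h1, ?_, ?_⟩
    · rw [h2]
      refine mul_ne_zero ?_ hc
      rw [Ne, CharP.cast_eq_zero_iff K p]
      exact fun h => absurd (Nat.le_of_dvd (by omega) h) (by omega)
    · have : polyEval p K (taylor 1 P - P) = (fun j => polyEval p K P (j + 1)) - polyEval p K P := by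
        rw [map_sub]
        congr 1
        funext j
        exact polyEval_taylor P j
      rw [this]
      exact W.sub_mem (hW _ hPW) hPW
  have hall : ∀ s, s < Nat.find hex → ∃ Q : K[X], Q.degree < (s + 1 : ℕ) ∧ Q.coeff s ≠ 0 ∧
      polyEval p K Q ∈ W := by
    intro s hs
    obtain ⟨k, hk⟩ : ∃ k, Nat.find hex = s + 1 + k := Nat.exists_eq_add_of_le hs
    induction k generalizing s with
    | zero =>
      have hnot := Nat.find_min hex (show s < Nat.find hex from hs)
      rw [SetLike.not_le_iff_exists] at hnot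
      obtain ⟨f, hf, hfn⟩ := hnot
      obtain ⟨P, hP, rfl⟩ := mem_polySub.mp (Nat.find_spec hex hf)
      rw [hk, add_zero] at hP
      refine ⟨P, hP, fun hc => hfn (mem_polySub.mpr ⟨P, ?_, rfl⟩), hf⟩
      rw [degree_lt_iff_coeff_zero]
      intro n hn
      have hn' : s ≤ n := by exact_mod_cast hn
      rcases hn'.eq_or_lt with rfl | hlt
      · exact hc
      · exact coeff_eq_zero_of_degree_lt (lt_of_lt_of_le hP (by exact_mod_cast hlt))
    | succ k ih =>
      obtain ⟨P, hP, hc, hPW⟩ := ih (s + 1) (by omega) (by omega)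
      exact hdown s (by omega) P hP hc hPW
  have hsub : ∀ s, s ≤ Nat.find hex → polySub p K s ≤ W := by
    intro s hs
    induction s with
    | zero =>
      intro f hf
      obtain ⟨P, hP, rfl⟩ := mem_polySub.mp hf
      have : P = 0 := degree_eq_bot.mp (Nat.WithBot.lt_zero_iff.mp (by simpa using hP))
      rw [this, map_zero]
      exact W.zero_mem
    | succ s ih =>
      intro f hf
      obtain ⟨R, hR, rfl⟩ := mem_polySub.mp hf
      obtain ⟨Q, hQ, hc, hQW⟩ := hall s hs
      have hlow : (R - (R.coeff s / Q.coeff s) • Q).degree < (s : ℕ) := by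
        rw [degree_lt_iff_coeff_zero]
        intro n hn
        have hn' : s ≤ n := by exact_mod_cast hn
        rw [coeff_sub, coeff_smul, smul_eq_mul]
        rcases hn'.eq_or_lt with rfl | hlt
        · rw [div_mul_cancel₀ _ hc, sub_self]
        · rw [coeff_eq_zero_of_degree_lt (n := n) (lt_of_lt_of_le hR (by exact_mod_cast hlt)),
            coeff_eq_zero_of_degree_lt (n := n) (lt_of_lt_of_le hQ (by exact_mod_cast hlt)), mul_zero,
            sub_zero]
      have := W.add_mem (ih (by omega) (mem_polySub.mpr ⟨_, hlow, rfl⟩))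
        (W.smul_mem (R.coeff s / Q.coeff s) hQW)
      rwa [← map_smul, ← map_add, sub_add_cancel] at this
  exact hsub _ le_rfl

theorem sum_polyEval_eq_zero {P : K[X]} (hP : P.degree < (p - 1 : ℕ)) :
    ∑ j, polyEval p K P j = 0 := by
  simp only [polyEval_apply]
  rcases eq_or_ne P 0 with rfl | hP0
  · simp
  rw [← natDegree_lt_iff_degree_lt hP0] at hP
  simp only [eval_eq_sum_range]
  rw [Finset.sum_comm]
  refine Finset.sum_eq_zero fun i hi => ?_
  rw [Finset.mem_range] at hi
  rw [← Finset.mul_sum]
  simp only [← map_pow, ← map_sum]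
  rw [FiniteField.sum_pow_lt_card_sub_one (K := ZMod p) i (by rw [ZMod.card]; omega), map_zero,
    mul_zero]

theorem sum_mul_eq_zero {r s : ℕ} (hrs : r + s ≤ p) {f g : ZMod p → K} (hf : f ∈ polySub p K r)
    (hg : g ∈ polySub p K s) : ∑ j, f j * g j = 0 := by
  obtain ⟨P, hP, rfl⟩ := mem_polySub.mp hf
  obtain ⟨Q, hQ, rfl⟩ := mem_polySub.mp hg
  have : ∀ j, polyEval p K P j * polyEval p K Q j = polyEval p K (P * Q) j := fun j => by
    simp [polyEval_apply]
  simp only [this]
  refine sum_polyEval_eq_zero ?_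
  rcases eq_or_ne (P * Q) 0 with h | h
  · rw [h, degree_zero]; exact WithBot.bot_lt_coe _
  have hP0 : P ≠ 0 := left_ne_zero_of_mul h
  have hQ0 : Q ≠ 0 := right_ne_zero_of_mul h
  rw [← natDegree_lt_iff_degree_lt hP0] at hP
  rw [← natDegree_lt_iff_degree_lt hQ0] at hQ
  rw [← natDegree_lt_iff_degree_lt h, natDegree_mul hP0 hQ0]
  omega

theorem const_mem_polySub {r : ℕ} (hr : 1 ≤ r) : (fun _ => (1 : K)) ∈ polySub p K r := by
  refine mem_polySub.mpr ⟨1, ?_, ?_⟩
  · rw [degree_one]; exact_mod_cast hr
  · funext j; simp [polyEval_apply]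

theorem incl_mem_polySub {r : ℕ} (hr : 2 ≤ r) : (incl p K : ZMod p → K) ∈ polySub p K r := by
  refine mem_polySub.mpr ⟨X, ?_, ?_⟩
  · rw [degree_X]; exact_mod_cast hr
  · funext j; simp [polyEval_apply]

theorem polySub_zero : polySub p K 0 = ⊥ := by
  rw [← Submodule.finrank_eq_zero, finrank_polySub (Nat.zero_le _)]

theorem incl_not_mem_polySub_one : (incl p K : ZMod p → K) ∉ polySub p K 1 := by
  intro h
  obtain ⟨P, hP, hf⟩ := mem_polySub.mp h
  have hP' : P.degree ≤ 0 := Nat.WithBot.lt_one_iff_le_zero.mp (by simpa using hP)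
  rw [eq_C_of_degree_le_zero hP'] at hf
  have h0 := congrFun hf 0
  have h1 := congrFun hf 1
  simp only [map_zero, map_one, polyEval_apply, eval_C] at h0 h1
  rw [← h0] at h1
  exact one_ne_zero h1

/-- Reflection: a permutation preserving the functions of degree `< r` (`2 ≤ r`, `2 r ≤ p + 1`)
is affine. -/
theorem affine_of_preserves {r : ℕ} (hr : 2 ≤ r) (hrp : 2 * r ≤ p + 1) (σ : Equiv.Perm (ZMod p))
    (hσ : ∀ f ∈ polySub p K r, (fun j => f (σ j)) ∈ polySub p K r) :
    ∃ a b : ZMod p, ∀ j, σ j = a * j + b := by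
  obtain ⟨P, hP, hPe⟩ := mem_polySub.mp (hσ _ (incl_mem_polySub hr))
  have hPd : P.natDegree < 2 := by
    by_contra hd
    push Not at hd
    have hP0 : P ≠ 0 := fun h => by simp [h] at hd
    have hdr : P.natDegree < r := (natDegree_lt_iff_degree_lt hP0).mpr hP
    obtain ⟨k, hk1, hk2, hk3⟩ : ∃ k, k < r ∧ r ≤ P.natDegree * k ∧ P.natDegree * k < p := by
      refine ⟨(r - 1) / P.natDegree + 1, ?_, ?_, ?_⟩
      · have : (r - 1) / P.natDegree ≤ (r - 1) / 2 := Nat.div_le_div_left hd (by norm_num)
        omega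
      · have := Nat.lt_div_mul_add (a := r - 1) (b := P.natDegree) (by omega)
        rw [mul_add, mul_comm, mul_one]
        omega
      · have := Nat.div_mul_le_self (r - 1) P.natDegree
        rw [mul_add, mul_comm, mul_one]
        omega
    have hpow : (fun j => incl p K j ^ k) ∈ polySub p K r := by
      refine mem_polySub.mpr ⟨X ^ k, ?_, ?_⟩
      · rw [degree_X_pow]; exact_mod_cast hk1
      · funext j; simp [polyEval_apply]
    obtain ⟨Q, hQ, hQe⟩ := mem_polySub.mp (hσ _ hpow)
    have hPk : (P ^ k).natDegree = P.natDegree * k := by rw [natDegree_pow, mul_comm]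
    have hzero : P ^ k - Q = 0 := by
      apply polyEval_injOn (p := p)
      · refine lt_of_le_of_lt (degree_sub_le _ _) (max_lt ?_ ?_)
        · rw [← natDegree_lt_iff_degree_lt (pow_ne_zero _ hP0), hPk]; exact hk3
        · exact lt_of_lt_of_le hQ (by exact_mod_cast (show r ≤ p by omega))
      · funext j
        rw [map_sub, Pi.sub_apply, Pi.zero_apply, sub_eq_zero, polyEval_apply, eval_pow,
          ← congrFun hQe j]
        congr 1
        rw [← polyEval_apply, ← congrFun hPe j]
    rw [sub_eq_zero] at hzero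
    rw [← hzero, ← natDegree_lt_iff_degree_lt (pow_ne_zero _ hP0), hPk] at hQ
    omega
  refine ⟨σ 1 - σ 0, σ 0, fun j => incl_injective (K := K) ?_⟩
  have he : ∀ j, incl p K (σ j) = P.coeff 0 + P.coeff 1 * incl p K j := by
    intro j
    have := congrFun hPe j
    rw [polyEval_apply, eval_eq_sum_range' hPd] at this
    simpa [Finset.sum_range_succ] using this
  rw [map_add, map_mul, map_sub, he j, he 1, he 0, map_one, map_zero]
  ring

end Cfsg.Agent.H32
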