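import Mathlib
import Cfsg.Prelude.Def_Perm
import Cfsg.Agent.H32.PolyFunctions

/-!
The permutation module in characteristic `p` of a transitive group of `p`-power degree, and of a
group of prime degree: unique maximal submodule, the double transitivity criterion, the
irreducibility of the heart unless the group is affine, and Burnside's dichotomy.
-/

set_option autoImplicit false
set_option linter.style.haveILetI false

namespace Cfsg.Agent.H32

open MulAction

section general

variable {G : Type*} [Group G] {K : Type*} [Field K] {Ω : Type*} [MulAction G Ω]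

theorem permRep_apply (g : G) (f : Ω → K) (x : Ω) : Cfsg.permRep K G Ω g f x = f (g⁻¹ • x) := rfl

theorem permRep_single [DecidableEq Ω] (g : G) (x : Ω) (c : K) :
    Cfsg.permRep K G Ω g (Pi.single x c) = Pi.single (g • x) c := by
  funext z
  simp [permRep_apply, Pi.single_apply, inv_smul_eq_iff]

theorem mem_permSumZero [Fintype Ω] {f : Ω → K} :
    f ∈ (Cfsg.permSumZero K G Ω).toSubmodule ↔ ∑ x, f x = 0 := Iff.rfl

theorem one_mem_permConstants :
    (fun _ : Ω => (1 : K)) ∈ (Cfsg.permConstants K G Ω).toSubmodule :=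
  Submodule.subset_span rfl

theorem mem_permConstants {f : Ω → K} :
    f ∈ (Cfsg.permConstants K G Ω).toSubmodule ↔ ∃ c : K, ∀ x, f x = c := by
  show f ∈ Submodule.span K {fun _ : Ω => (1 : K)} ↔ _
  rw [Submodule.mem_span_singleton]
  constructor
  · rintro ⟨c, rfl⟩; exact ⟨c, fun x => by simp⟩
  · rintro ⟨c, hc⟩; exact ⟨c, funext fun x => by simp [hc]⟩

variable [Finite G] {p f : ℕ} [Fact p.Prime] [CharP K p] [Fintype Ω] [IsPretransitive G Ω]

/-- A nonzero invariant subspace of functions contains the constants. -/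
theorem one_mem_of_invariant (hcard : Fintype.card Ω = p ^ f) (W : Submodule K (Ω → K))
    (hW : ∀ g : G, ∀ v ∈ W, Cfsg.permRep K G Ω g v ∈ W) (hne : W ≠ ⊥) :
    (fun _ : Ω => (1 : K)) ∈ W := by
  classical
  obtain ⟨v, hv, hv0⟩ := (Submodule.ne_bot_iff _).mp hne
  let P : Sylow p G := default
  have hPt : ∀ x y : Ω, ∃ g ∈ (P : Subgroup G), g • x = y := by
    intro x y
    have h2 : Nat.card (MulAction.orbit (P : Subgroup G) x) = p ^ f := by
      obtain ⟨i, hi⟩ := (P.2).card_orbit (α := Ω) x
      have hle : Nat.card (MulAction.orbit (P : Subgroup G) x) ≤ p ^ f := by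
        rw [← hcard, ← Nat.card_eq_fintype_card]
        exact Nat.card_le_card_of_injective _ Subtype.val_injective
      refine le_antisymm hle ?_
      have hdiv : p ^ f ∣ (P : Subgroup G).index * p ^ i := by
        rw [← hi, ← MulAction.index_stabilizer (G := (P : Subgroup G)) (x := x) |>.trans
          (Nat.card_coe_set_eq _).symm]
        have e : (MulAction.stabilizer (P : Subgroup G) x).map (P : Subgroup G).subtype ≤
            MulAction.stabilizer G x := by
          rintro _ ⟨g, hg, rfl⟩; exact hg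
        have h3 := Subgroup.index_dvd_of_le e
        rw [MulAction.index_stabilizer_of_transitive, Nat.card_eq_fintype_card, hcard,
          Subgroup.index_map_subtype] at h3
        rwa [mul_comm]
      have hcop : Nat.Coprime (p ^ f) (P : Subgroup G).index :=
        ((Nat.Prime.coprime_iff_not_dvd Fact.out).mpr P.not_dvd_index).pow_left f
      rw [hi]
      exact Nat.le_of_dvd (pow_pos (Fact.out : p.Prime).pos i) (hcop.dvd_of_dvd_mul_left hdiv)
    have hb : Function.Bijective (Subtype.val : MulAction.orbit (P : Subgroup G) x → Ω) :=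
      (Fintype.bijective_iff_injective_and_card _).mpr ⟨Subtype.val_injective, by
        rw [← Nat.card_eq_fintype_card, h2, hcard]⟩
    obtain ⟨⟨z, ⟨g, hg⟩⟩, rfl⟩ := hb.2 y
    exact ⟨g, g.2, hg⟩
  let M : AddSubgroup (Ω → K) := AddSubgroup.closure (Set.range fun g : G => Cfsg.permRep K G Ω g v)
  have hMW : M ≤ W.toAddSubgroup :=
    (AddSubgroup.closure_le _).mpr (Set.range_subset_iff.mpr fun g => hW g v hv)
  have hMinv : ∀ (g : G), ∀ m ∈ M, Cfsg.permRep K G Ω g m ∈ M := by
    intro g m hm
    induction hm using AddSubgroup.closure_induction with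
    | mem y hy =>
      obtain ⟨h, rfl⟩ := hy
      exact AddSubgroup.subset_closure ⟨g * h, by simp⟩
    | zero => rw [map_zero]; exact M.zero_mem
    | add y z _ _ hy hz => rw [map_add]; exact M.add_mem hy hz
    | neg y _ hy => rw [map_neg]; exact M.neg_mem hy
  haveI : AddGroup.FG M := (AddGroup.fg_iff_addSubgroup_fg M).mpr
    (AddSubgroup.fg_iff _ |>.mpr ⟨_, rfl, Set.finite_range _⟩)
  have hpM : ∀ m : M, p • m = 0 := by
    intro m
    apply Subtype.ext
    funext x
    simp
  haveI : Finite M := AddCommGroup.finite_of_fg_torsion M fun m =>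
    isOfFinAddOrder_iff_nsmul_eq_zero.mpr ⟨p, (Fact.out : p.Prime).pos, hpM m⟩
  letI : MulAction (P : Subgroup G) M :=
    { smul := fun g m => ⟨Cfsg.permRep K G Ω g m, hMinv g m m.2⟩
      one_smul := fun m => Subtype.ext (by show Cfsg.permRep K G Ω (1 : G) m = m; simp)
      mul_smul := fun g h m => Subtype.ext (by
        show Cfsg.permRep K G Ω ((g : G) * h) m = Cfsg.permRep K G Ω g (Cfsg.permRep K G Ω h m)
        simp) }
  have hv' : v ∈ M := AddSubgroup.subset_closure ⟨1, by simp⟩
  have hpdvd : p ∣ Nat.card M := by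
    have hne' : (⟨v, hv'⟩ : M) ≠ 0 := fun h => hv0 (congrArg Subtype.val h)
    exact (addOrderOf_eq_prime (hpM ⟨v, hv'⟩) hne') ▸ addOrderOf_dvd_natCard _
  obtain ⟨m, hm, hm0⟩ := (P.2).exists_fixed_point_of_prime_dvd_card_of_fixed_point M hpdvd
    (a := 0) (fun g => Subtype.ext (map_zero (Cfsg.permRep K G Ω (g : G))))
  obtain ⟨x, hx⟩ : ∃ x, (m : Ω → K) x ≠ 0 := by
    by_contra h
    push Not at h
    exact hm0 (Subtype.ext (funext fun x => (h x).symm))
  have hconst : ∀ z, (m : Ω → K) z = (m : Ω → K) x := by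
    intro z
    obtain ⟨g, hg, hgz⟩ := hPt x z
    have h5 : Cfsg.permRep K G Ω g (m : Ω → K) = m := congrArg Subtype.val (hm ⟨g, hg⟩)
    have h6 := congrFun h5 z
    rw [permRep_apply, ← hgz, inv_smul_smul] at h6
    rw [← hgz, ← h6]
  have h7 : ((m : Ω → K) x)⁻¹ • (m : Ω → K) ∈ W := W.smul_mem _ (hMW m.2)
  convert h7 using 1
  funext z
  rw [Pi.smul_apply, smul_eq_mul, hconst z, inv_mul_cancel₀ hx]

/-- Every proper invariant subspace lies in the sum-zero functions. -/
theorem le_sumZero_of_invariant (hcard : Fintype.card Ω = p ^ f) (W : Submodule K (Ω → K))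
    (hW : ∀ g : G, ∀ v ∈ W, Cfsg.permRep K G Ω g v ∈ W) (hne : W ≠ ⊤) :
    W ≤ (Cfsg.permSumZero K G Ω).toSubmodule := by
  classical
  obtain ⟨φ, hφ, hle⟩ := Submodule.exists_le_ker_of_lt_top W (lt_top_iff_ne_top.mpr hne)
  let W' : Submodule K (Ω → K) :=
    { carrier := {u | ∀ w ∈ W, ∑ x, u x * w x = 0}
      add_mem' := fun {u v} hu hv w hw => by
        simp [add_mul, Finset.sum_add_distrib, hu w hw, hv w hw]
      zero_mem' := fun w _ => by simp
      smul_mem' := fun c u hu w hw => by simp [mul_assoc, ← Finset.mul_sum, hu w hw] }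
  have hW'inv : ∀ g : G, ∀ v ∈ W', Cfsg.permRep K G Ω g v ∈ W' := by
    intro g v hv w hw
    refine (Fintype.sum_equiv (toPerm g⁻¹) _ _ fun x => ?_).trans (hv _ (hW g⁻¹ w hw))
    simp [permRep_apply]
  have hW'ne : W' ≠ ⊥ := by
    rw [Submodule.ne_bot_iff]
    refine ⟨fun x => φ (Pi.single x 1), fun w hw => ?_, fun h => hφ ?_⟩
    · have h1 : φ w = 0 := hle hw
      rw [← h1]
      conv_rhs => rw [pi_eq_sum_univ' w]
      simp [mul_comm, Pi.single_apply]
    · refine (Pi.basisFun K Ω).ext fun x => ?_
      rw [Pi.basisFun_apply]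
      exact congrFun h x
  intro w hw
  rw [mem_permSumZero]
  simpa using one_mem_of_invariant hcard W' hW'inv hW'ne w hw

theorem sum_one_eq_zero (hf : 1 ≤ f) (hcard : Fintype.card Ω = p ^ f) :
    ∑ _x : Ω, (1 : K) = 0 := by
  rw [Finset.sum_const, Finset.card_univ, hcard, nsmul_one, Nat.cast_pow, CharP.cast_eq_zero,
    zero_pow (by omega)]

/-- If no trivial factor occurs in the heart, the action is doubly transitive. -/
theorem two_transitive_of_heart (hf : 1 ≤ f) (hcard : Fintype.card Ω = p ^ f)
    (h : ∀ W W' : Subrepresentation (Cfsg.permRep K G Ω),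
      (Cfsg.permConstants K G Ω).toSubmodule ≤ W.toSubmodule → W.toSubmodule < W'.toSubmodule →
      W'.toSubmodule ≤ (Cfsg.permSumZero K G Ω).toSubmodule →
      ∃ g : G, ∃ v ∈ W'.toSubmodule, Cfsg.permRep K G Ω g v - v ∉ W.toSubmodule) :
    MulAction.IsMultiplyPretransitive G Ω 2 := by
  classical
  -- all ordered pairs of distinct points form one orbit
  suffices key : ∀ a b : Ω, a ≠ b → ∀ x y : Ω, x ≠ y → ∃ g : G, g • a = x ∧ g • b = y by
    rw [MulAction.is_two_pretransitive_iff]
    intro a b c d hab hcd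
    exact key a b hab c d hcd
  intro a₀ b₀ hab₀
  let A : Ω → Ω → K := fun x y => if ∃ g : G, g • a₀ = x ∧ g • b₀ = y then 1 else 0
  have hAg : ∀ (g : G) (x y : Ω), A (g • x) (g • y) = A x y := by
    intro g x y
    simp only [A]
    congr 1
    rw [eq_iff_iff]
    constructor
    · rintro ⟨u, h1, h2⟩
      exact ⟨g⁻¹ * u, by rw [mul_smul, h1, inv_smul_smul], by rw [mul_smul, h2, inv_smul_smul]⟩
    · rintro ⟨u, h1, h2⟩
      exact ⟨g * u, by rw [mul_smul, h1], by rw [mul_smul, h2]⟩
  set d : K := ∑ x, A x b₀ with hd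
  have hcol : ∀ y, ∑ x, A x y = d := by
    intro y
    obtain ⟨g, rfl⟩ := exists_smul_eq G b₀ y
    exact (Fintype.sum_equiv (toPerm g) (fun x => A x b₀) _ fun x => (hAg g x b₀).symm).symm
  -- row sums agree with column sums, by counting in `ℕ`
  have hrow : ∀ x, ∑ y, A x y = d := by
    intro x
    let R : Ω → Finset Ω := fun u => Finset.univ.filter fun v => ∃ g : G, g • a₀ = u ∧ g • b₀ = v
    let C : Ω → Finset Ω := fun v => Finset.univ.filter fun u => ∃ g : G, g • a₀ = u ∧ g • b₀ = v
    have hR : ∀ u, (R u).card = (R x).card := by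
      intro u
      obtain ⟨g, rfl⟩ := exists_smul_eq G x u
      refine (Finset.card_equiv (toPerm g) fun v => ?_).symm
      simp only [R, Finset.mem_filter, Finset.mem_univ, true_and, toPerm_apply]
      constructor
      · rintro ⟨w, h1, h2⟩; exact ⟨g * w, by rw [mul_smul, h1], by rw [mul_smul, h2]⟩
      · rintro ⟨w, h1, h2⟩
        exact ⟨g⁻¹ * w, by rw [mul_smul, h1, inv_smul_smul], by rw [mul_smul, h2, inv_smul_smul]⟩
    have hC : ∀ v, (C v).card = (C b₀).card := by
      intro v
      obtain ⟨g, rfl⟩ := exists_smul_eq G b₀ v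
      refine (Finset.card_equiv (toPerm g) fun u => ?_).symm
      simp only [C, Finset.mem_filter, Finset.mem_univ, true_and, toPerm_apply]
      constructor
      · rintro ⟨w, h1, h2⟩; exact ⟨g * w, by rw [mul_smul, h1], by rw [mul_smul, h2]⟩
      · rintro ⟨w, h1, h2⟩
        exact ⟨g⁻¹ * w, by rw [mul_smul, h1, inv_smul_smul], by rw [mul_smul, h2, inv_smul_smul]⟩
    have hRC : ∑ u, (R u).card = ∑ v, (C v).card := by
      simp only [R, C, Finset.card_filter]
      exact Finset.sum_comm
    simp only [hR, hC, Finset.sum_const, Finset.card_univ, smul_eq_mul] at hRC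
    have heq := Nat.eq_of_mul_eq_mul_left (Fintype.card_pos_iff.mpr ⟨x⟩) hRC
    have h1 : ∑ y, A x y = ((R x).card : K) := by simp [A, R, Finset.sum_boole]
    have h2 : d = ((C b₀).card : K) := by simp [hd, A, C, Finset.sum_boole]
    rw [h1, h2, heq]
  let ψ : (Ω → K) →ₗ[K] (Ω → K) :=
    { toFun := fun v y => ∑ x, A x y * v x - d * v y
      map_add' := fun u v => by
        funext y; simp [mul_add, Finset.sum_add_distrib]; ring
      map_smul' := fun c v => by
        funext y; simp [Finset.mul_sum, mul_sub, mul_left_comm] }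
  have hψ : ∀ v y, ψ v y = ∑ x, A x y * v x - d * v y := fun v y => rfl
  have hψg : ∀ (g : G) v, ψ (Cfsg.permRep K G Ω g v) = Cfsg.permRep K G Ω g (ψ v) := by
    intro g v
    funext y
    simp only [hψ, permRep_apply]
    congr 1
    refine Fintype.sum_equiv (toPerm g⁻¹) _ _ fun x => ?_
    simp [hAg]
  have hψsum : ∀ v, ∑ y, ψ v y = 0 := by
    intro v
    simp only [hψ, Finset.sum_sub_distrib, ← Finset.mul_sum]
    rw [Finset.sum_comm]
    simp only [← Finset.sum_mul, hrow, ← Finset.mul_sum, sub_self]
  have hψne : ψ ≠ 0 := by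
    intro h0
    have := congrFun (LinearMap.congr_fun h0 (Pi.single a₀ 1)) b₀
    simp only [hψ, Pi.single_apply, mul_ite, mul_one, mul_zero, Finset.sum_ite_eq', Finset.mem_univ,
      if_true, if_neg (Ne.symm hab₀), sub_zero] at this
    simp only [A] at this
    rw [if_pos ⟨1, one_smul _ _, one_smul _ _⟩] at this
    exact one_ne_zero this
  -- the invariant subspaces to compare
  let I : Subrepresentation (Cfsg.permRep K G Ω) :=
    { toSubmodule := LinearMap.range ψ
      apply_mem_toSubmodule := fun g v hv => by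
        obtain ⟨u, rfl⟩ := hv
        exact ⟨_, hψg g u⟩ }
  let I₀ : Subrepresentation (Cfsg.permRep K G Ω) :=
    { toSubmodule := (Cfsg.permSumZero K G Ω).toSubmodule.map ψ
      apply_mem_toSubmodule := fun g v hv => by
        obtain ⟨u, hu, rfl⟩ := hv
        exact ⟨_, (Cfsg.permSumZero K G Ω).apply_mem_toSubmodule g hu, hψg g u⟩ }
  have hN : LinearMap.ker ψ ≤ (Cfsg.permSumZero K G Ω).toSubmodule := by
    refine le_sumZero_of_invariant hcard _ (fun g v hv => ?_) ?_
    · rw [LinearMap.mem_ker] at hv ⊢
      rw [hψg, hv, map_zero]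
    · rwa [Ne, LinearMap.ker_eq_top]
  have hIc : (fun _ : Ω => (1 : K)) ∈ I.toSubmodule :=
    one_mem_of_invariant hcard _ (fun g v hv => I.apply_mem_toSubmodule g hv)
      (fun hb => hψne (LinearMap.range_eq_bot.mp hb))
  have hsingle : Pi.single a₀ (1 : K) ∉ (Cfsg.permSumZero K G Ω).toSubmodule := by
    rw [mem_permSumZero, Finset.sum_pi_single' a₀ (1 : K) Finset.univ]
    simp
  have hsplit : ∀ v : Ω → K, ∃ u ∈ (Cfsg.permSumZero K G Ω).toSubmodule,
      v = u + (∑ x, v x) • Pi.single a₀ 1 := by
    intro v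
    refine ⟨v - (∑ x, v x) • Pi.single a₀ 1, ?_, by simp⟩
    rw [mem_permSumZero]
    simp [Finset.sum_sub_distrib, ← Finset.mul_sum, Finset.sum_pi_single']
  have hIeq : I.toSubmodule ≤ (Cfsg.permConstants K G Ω).toSubmodule := by
    by_contra hnle
    by_cases hb : I₀.toSubmodule = ⊥
    · -- then the range is spanned by one vector
      apply hnle
      rintro _ ⟨v, rfl⟩
      have h0 : ∀ u ∈ (Cfsg.permSumZero K G Ω).toSubmodule, ψ u = 0 := fun u hu => by
        have : ψ u ∈ I₀.toSubmodule := ⟨u, hu, rfl⟩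
        rwa [hb, Submodule.mem_bot] at this
      obtain ⟨w, hw⟩ := hIc
      obtain ⟨u, hu, hwe⟩ := hsplit w
      obtain ⟨u', hu', hve⟩ := hsplit v
      have h1 : (fun _ : Ω => (1 : K)) = (∑ x, w x) • ψ (Pi.single a₀ 1) := by
        rw [← hw, ← map_smul]
        conv_lhs => rw [hwe, map_add, h0 u hu, zero_add]
      have h2 : (∑ x, w x) ≠ 0 := fun hz => by
        rw [hz, zero_smul] at h1
        exact one_ne_zero (congrFun h1 a₀)
      rw [hve, map_add, h0 u' hu', zero_add, map_smul]
      refine Submodule.smul_mem _ _ ?_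
      rw [← inv_smul_smul₀ h2 (ψ (Pi.single a₀ 1)), ← h1]
      exact Submodule.smul_mem _ _ one_mem_permConstants
    · have hc₀ : (Cfsg.permConstants K G Ω).toSubmodule ≤ I₀.toSubmodule :=
        (Submodule.span_singleton_le_iff_mem _ _).mpr
          (one_mem_of_invariant hcard _ (fun g v hv => I₀.apply_mem_toSubmodule g hv) hb)
      have hlt : I₀.toSubmodule < I.toSubmodule := by
        refine lt_of_le_of_ne (Submodule.map_le_iff_le_comap.mpr fun u _ => ⟨u, rfl⟩) fun he => ?_
        have : ψ (Pi.single a₀ 1) ∈ I₀.toSubmodule := he ▸ ⟨_, rfl⟩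
        obtain ⟨u, hu, hue⟩ := this
        apply hsingle
        have hk : Pi.single a₀ 1 - u ∈ LinearMap.ker ψ := by
          rw [LinearMap.mem_ker, map_sub, hue, sub_self]
        simpa using Submodule.add_mem _ (hN hk) hu
      obtain ⟨g, v, ⟨w, rfl⟩, hgv⟩ := h I₀ I hc₀ hlt (by
        rintro _ ⟨w, rfl⟩
        exact mem_permSumZero.mpr (hψsum w))
      apply hgv
      rw [← hψg, ← map_sub]
      refine ⟨_, mem_permSumZero.mpr ?_, rfl⟩
      simp only [Pi.sub_apply, Finset.sum_sub_distrib, sub_eq_zero, permRep_apply]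
      exact Fintype.sum_equiv (toPerm g⁻¹) _ _ fun x => rfl
  -- hence the orbital is everything off the diagonal
  intro x y hxy
  obtain ⟨g, hg⟩ := exists_smul_eq G a₀ x
  obtain ⟨c, hc⟩ := mem_permConstants.mp (hIeq ⟨Pi.single x 1, rfl⟩)
  have hval : ∀ z, z ≠ x → A x z = c := by
    intro z hz
    have := hc z
    simp only [hψ, Pi.single_apply, mul_ite, mul_one, mul_zero, Finset.sum_ite_eq', Finset.mem_univ,
      if_true, if_neg hz, sub_zero] at this
    exact this
  have h1 : A x (g • b₀) = 1 := if_pos ⟨g, hg, rfl⟩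
  have h2 := hval (g • b₀) fun he => hab₀ (smul_left_cancel g (hg.trans he.symm))
  have h3 := hval y (Ne.symm hxy)
  rw [← h2, h1] at h3
  by_contra hcon
  simp only [A] at h3
  rw [if_neg hcon] at h3
  exact zero_ne_one h3

end general

section primeDegree

variable {α : Type*} [Fintype α] [DecidableEq α] {p : ℕ} [Fact p.Prime]

/-- Coordinates along a `p`-cycle of a transitive group of prime degree `p`. -/
structure CycleCoords (G : Subgroup (Equiv.Perm α)) (p : ℕ) where
  gen : G
  coord : ZMod p ≃ α
  gen_smul : ∀ j, gen • coord j = coord (j + 1)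

theorem exists_coords_of_order (hα : Fintype.card α = p) {G : Subgroup (Equiv.Perm α)} (x : G)
    (hx : orderOf x = p) : ∃ C : CycleCoords G p, C.gen = x := by
  classical
  have hne : ∃ a : α, x • a ≠ a := by
    by_contra h
    push Not at h
    have : x = 1 := Subtype.ext (Equiv.ext h)
    rw [this, orderOf_one] at hx
    exact (Fact.out : p.Prime).ne_one hx.symm
  obtain ⟨a, ha⟩ := hne
  have hxp : x ^ p = 1 := hx ▸ pow_orderOf_eq_one x
  have hper : MulAction.period x a = p := by
    have hdvd : MulAction.period x a ∣ p := MulAction.pow_smul_eq_iff_period_dvd.mp (by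
      rw [hxp, one_smul])
    refine ((Nat.dvd_prime Fact.out).mp hdvd).resolve_left fun h1 => ha ?_
    have := MulAction.pow_period_smul x a
    rwa [h1, pow_one] at this
  have hinj : Function.Injective (fun j : ZMod p => x ^ j.val • a) := by
    intro i j hij
    simp only at hij
    have hmod : i.val % MulAction.period x a = j.val % MulAction.period x a := by
      have h1 := MulAction.pow_mod_period_smul i.val (m := x) (a := a)
      rcases le_total i.val j.val with hle | hle
      · have : x ^ (j.val - i.val) • a = a := by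
          apply smul_left_cancel (x ^ i.val)
          rw [smul_smul, ← pow_add, Nat.add_sub_cancel' hle, hij]
        exact ((Nat.modEq_iff_dvd' hle).mpr (MulAction.pow_smul_eq_iff_period_dvd.mp this))
      · have : x ^ (i.val - j.val) • a = a := by
          apply smul_left_cancel (x ^ j.val)
          rw [smul_smul, ← pow_add, Nat.add_sub_cancel' hle, hij]
        exact ((Nat.modEq_iff_dvd' hle).mpr (MulAction.pow_smul_eq_iff_period_dvd.mp this)).symm
    rw [hper, Nat.mod_eq_of_lt i.val_lt, Nat.mod_eq_of_lt j.val_lt] at hmod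
    exact ZMod.val_injective p hmod
  refine ⟨⟨x, Equiv.ofBijective _ ((Fintype.bijective_iff_injective_and_card _).mpr
    ⟨hinj, by rw [ZMod.card, hα]⟩), fun j => ?_⟩, rfl⟩
  show x • (x ^ j.val • a) = x ^ (j + 1).val • a
  rw [smul_smul, ← pow_succ', ← MulAction.pow_mod_period_smul (j.val + 1), hper, ZMod.val_add,
    ZMod.val_one]

theorem exists_coords (hα : Fintype.card α = p) (G : Subgroup (Equiv.Perm α))
    [IsPretransitive G α] : ∃ _C : CycleCoords G p, True := by
  haveI : Nonempty α := Fintype.card_pos_iff.mp (by rw [hα]; exact (Fact.out : p.Prime).pos)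
  obtain ⟨a⟩ := (inferInstance : Nonempty α)
  have hdvd : p ∣ Nat.card G := by
    have := (stabilizer G a).index_dvd_card
    rwa [index_stabilizer_of_transitive, Nat.card_eq_fintype_card, hα] at this
  obtain ⟨x, hx⟩ := exists_prime_orderOf_dvd_card' (G := G) p hdvd
  exact ⟨(exists_coords_of_order hα x hx).choose, trivial⟩

variable {G : Subgroup (Equiv.Perm α)}

theorem CycleCoords.pow_smul (C : CycleCoords G p) (n : ℕ) (j : ZMod p) :
    C.gen ^ n • C.coord j = C.coord (j + n) := by
  induction n with
  | zero => simp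
  | succ n ih => rw [pow_succ', mul_smul, ih, C.gen_smul, Nat.cast_succ, add_assoc]

/-- All elements of `G` are affine in these coordinates. -/
def CycleCoords.AllAffine (C : CycleCoords G p) : Prop :=
  ∀ g : G, ∃ a b : ZMod p, ∀ j, g • C.coord j = C.coord (a * j + b)

theorem CycleCoords.isSolvable (C : CycleCoords G p) (h : C.AllAffine) : Group.IsSolvable G := by
  let T : Subgroup G :=
    { carrier := {g | ∃ b : ZMod p, ∀ j, g • C.coord j = C.coord (j + b)}
      one_mem' := ⟨0, fun j => by simp⟩
      mul_mem' := by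
        rintro g h ⟨b, hb⟩ ⟨c, hc⟩
        exact ⟨c + b, fun j => by rw [mul_smul, hc, hb, add_assoc]⟩
      inv_mem' := by
        rintro g ⟨b, hb⟩
        exact ⟨-b, fun j => by rw [inv_smul_eq_iff, hb, neg_add_cancel_right]⟩ }
  have h1 : ⁅(⊤ : Subgroup G), ⊤⁆ ≤ T := by
    rw [Subgroup.commutator_le]
    intro g _ k _
    obtain ⟨a, b, hg⟩ := h g
    obtain ⟨c, d, hk⟩ := h k
    refine ⟨a * d + b - c * b - d, fun j => ?_⟩
    rw [commutatorElement_def]
    have e : g * k * g⁻¹ * k⁻¹ = (g * k) * (k * g)⁻¹ := by group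
    rw [e, mul_smul]
    obtain ⟨i, hi⟩ : ∃ i, ((k * g)⁻¹ : G) • C.coord j = C.coord i :=
      ⟨C.coord.symm (((k * g)⁻¹ : G) • C.coord j), (C.coord.apply_symm_apply _).symm⟩
    rw [hi]
    rw [inv_smul_eq_iff, mul_smul, hg, hk] at hi
    rw [C.coord.injective hi, mul_smul, hk, hg]
    congr 1
    ring
  have h2 : ⁅T, T⁆ = ⊥ := by
    rw [eq_bot_iff, Subgroup.commutator_le]
    rintro g ⟨b, hg⟩ k ⟨d, hk⟩
    rw [Subgroup.mem_bot, commutatorElement_eq_one_iff_mul_comm]
    refine Subtype.ext (Equiv.ext fun x => ?_)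
    obtain ⟨j, rfl⟩ := C.coord.surjective x
    show g • k • C.coord j = k • g • C.coord j
    rw [hk, hg, hg, hk, add_right_comm]
  refine ⟨⟨2, ?_⟩⟩
  rw [eq_bot_iff, ← h2, derivedSeries_succ]
  exact Subgroup.commutator_mono (by rw [derivedSeries_succ, derivedSeries_zero]; exact h1)
    (by rw [derivedSeries_succ, derivedSeries_zero]; exact h1)

theorem perm_zmod_two_affine :
    ∀ σ : Equiv.Perm (ZMod 2), ∃ a b : ZMod 2, ∀ j, σ j = a * j + b := by decide

theorem perm_zmod_three_affine :
    ∀ σ : Equiv.Perm (ZMod 3), ∃ a b : ZMod 3, ∀ j, σ j = a * j + b := by decide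

theorem CycleCoords.allAffine_of_le_three (C : CycleCoords G p) (hp : p ≤ 3) : C.AllAffine := by
  have hall : ∀ σ : Equiv.Perm (ZMod p), ∃ a b : ZMod p, ∀ j, σ j = a * j + b := by
    have h2 := (Fact.out : p.Prime).two_le
    interval_cases p
    · exact perm_zmod_two_affine
    · exact perm_zmod_three_affine
  intro g
  obtain ⟨a, b, h⟩ := hall (C.coord.trans ((toPerm g).trans C.coord.symm))
  exact ⟨a, b, fun j => by rw [← h j]; simp⟩

variable {K : Type*} [Field K] [CharP K p]

/-- The functions on `ZMod p` obtained from `W` through the coordinates. -/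
noncomputable def CycleCoords.pull (C : CycleCoords G p) (W : Submodule K (α → K)) :
    Submodule K (ZMod p → K) :=
  W.map (LinearEquiv.funCongrLeft K K C.coord).toLinearMap

theorem CycleCoords.mem_pull (C : CycleCoords G p) {W : Submodule K (α → K)} {f : ZMod p → K} :
    f ∈ C.pull W ↔ f ∘ C.coord.symm ∈ W := by
  rw [CycleCoords.pull, Submodule.mem_map_equiv]
  rfl

theorem CycleCoords.pull_eq_polySub (C : CycleCoords G p) (W : Submodule K (α → K))
    (hW : ∀ g : G, ∀ v ∈ W, Cfsg.permRep K G α g v ∈ W) :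
    ∃ r ≤ p, C.pull W = polySub p K r ∧
      ∀ g : G, ∀ f ∈ polySub p K r,
        (fun j => f (C.coord.symm (g • C.coord j))) ∈ polySub p K r := by
  have hinv : ∀ g : G, ∀ f ∈ C.pull W, (fun j => f (C.coord.symm (g • C.coord j))) ∈ C.pull W := by
    intro g f hf
    rw [C.mem_pull] at hf ⊢
    convert hW g⁻¹ _ hf using 1
    funext x
    simp [permRep_apply]
  obtain ⟨r, hr, he⟩ := exists_eq_polySub_of_shift (W := C.pull W) fun f hf => by
    have := hinv C.gen f hf
    simpa [C.gen_smul] using this
  exact ⟨r, hr, he, fun g f hf => he ▸ hinv g f (he ▸ hf)⟩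

/-- In prime degree the heart is irreducible unless all elements are affine. -/
theorem CycleCoords.heart (C : CycleCoords G p) (hC : ¬ C.AllAffine) (W : Submodule K (α → K))
    (hW : ∀ g : G, ∀ v ∈ W, Cfsg.permRep K G α g v ∈ W)
    (h₁ : (Cfsg.permConstants K G α).toSubmodule ≤ W)
    (h₂ : W ≤ (Cfsg.permSumZero K G α).toSubmodule) :
    W = (Cfsg.permConstants K G α).toSubmodule ∨ W = (Cfsg.permSumZero K G α).toSubmodule := by
  classical
  obtain ⟨r, hr, he, hinv⟩ := C.pull_eq_polySub W hW
  have hmem : ∀ f : α → K, f ∈ W ↔ f ∘ C.coord ∈ polySub p K r := by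
    intro f
    rw [← he, C.mem_pull, Function.comp_assoc, Equiv.self_comp_symm, Function.comp_id]
  have hr1 : 1 ≤ r := by
    by_contra h
    have h0 := (hmem _).mp (h₁ one_mem_permConstants)
    rw [show r = 0 by omega, polySub_zero, Submodule.mem_bot] at h0
    exact one_ne_zero (congrFun h0 0)
  have hrp : r < p := by
    refine lt_of_le_of_ne hr fun h => ?_
    subst h
    have h0 : Pi.single (C.coord 0) (1 : K) ∈ (Cfsg.permSumZero K G α).toSubmodule :=
      h₂ ((hmem _).mpr (polySub_card (p := r) (K := K) ▸ Submodule.mem_top))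
    rw [mem_permSumZero, Finset.sum_pi_single'] at h0
    simp at h0
  rcases (by omega : r = 1 ∨ r = p - 1 ∨ (2 ≤ r ∧ r + 2 ≤ p)) with rfl | rfl | ⟨h2r, hr2⟩
  · left
    refine le_antisymm (fun f hf => ?_) h₁
    obtain ⟨P, hP, hPe⟩ := mem_polySub.mp ((hmem f).mp hf)
    have hP' : P.degree ≤ 0 := Nat.WithBot.lt_one_iff_le_zero.mp (by simpa using hP)
    rw [mem_permConstants]
    refine ⟨P.coeff 0, fun x => ?_⟩
    have := congrFun hPe (C.coord.symm x)
    rw [Function.comp_apply, C.coord.apply_symm_apply, polyEval_apply,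
      Polynomial.eq_C_of_degree_le_zero hP', Polynomial.eval_C] at this
    simpa using this
  · right
    refine Submodule.eq_of_le_of_finrank_le h₂ ?_
    have hWr : Module.finrank K W = p - 1 := by
      rw [← finrank_polySub (p := p) (K := K) (Nat.sub_le p 1), ← he, CycleCoords.pull,
        LinearEquiv.finrank_map_eq]
    have hlt : Module.finrank K (Cfsg.permSumZero K G α).toSubmodule < p := by
      have := Submodule.finrank_lt (K := K) (s := (Cfsg.permSumZero K G α).toSubmodule) (fun ht => by
        have h0 : Pi.single (C.coord 0) (1 : K) ∈ (Cfsg.permSumZero K G α).toSubmodule :=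
          ht ▸ Submodule.mem_top
        rw [mem_permSumZero, Finset.sum_pi_single'] at h0
        simp at h0)
      rwa [Module.finrank_fintype_fun_eq_card, ← Fintype.card_congr C.coord, ZMod.card] at this
    omega
  · exfalso
    apply hC
    -- the functions of degree `< p - r` are preserved as well
    have hdual : ∀ g : G, ∀ f ∈ polySub p K (p - r),
        (fun j => f (C.coord.symm (g • C.coord j))) ∈ polySub p K (p - r) := by
      intro g f hf
      let O : Submodule K (ZMod p → K) :=
        { carrier := {u | ∀ w ∈ polySub p K r, ∑ j, u j * w j = 0}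
          add_mem' := fun {u v} hu hv w hw => by
            simp [add_mul, Finset.sum_add_distrib, hu w hw, hv w hw]
          zero_mem' := fun w _ => by simp
          smul_mem' := fun c u hu w hw => by simp [mul_assoc, ← Finset.mul_sum, hu w hw] }
      have hOinv : ∀ g : G, ∀ u ∈ O, (fun j => u (C.coord.symm (g • C.coord j))) ∈ O := by
        intro g u hu w hw
        refine (Fintype.sum_equiv
          (C.coord.trans ((toPerm g).trans C.coord.symm)) _ _ fun j => ?_).trans
          (hu _ (hinv g⁻¹ w hw))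
        simp
      obtain ⟨s, hs, hOs⟩ := exists_eq_polySub_of_shift (W := O) fun u hu => by
        have := hOinv C.gen u hu
        simpa [C.gen_smul] using this
      have hsub : polySub p K (p - r) ≤ O := fun u hu w hw => sum_mul_eq_zero (by omega) hu hw
      have hs' : s ≤ p - r := by
        by_contra hlt
        -- the product of suitable monomials has non-zero sum
        have hmon : ∀ k n : ℕ, k < n →
            (fun j => incl p K j ^ k) ∈ polySub p K n := fun k n hkn =>
          mem_polySub.mpr ⟨Polynomial.X ^ k, by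
            rw [Polynomial.degree_X_pow]; exact_mod_cast hkn, by funext j; simp [polyEval_apply]⟩
        have h0 : (fun j => incl p K j ^ (p - r)) ∈ O := hOs ▸ hmon _ _ (by omega)
        have h1 := h0 _ (hmon (r - 1) r (by omega))
        have h2 : ∀ j : ZMod p, incl p K j ^ (p - r) * incl p K j ^ (r - 1) =
            incl p K (j ^ (p - 1)) := fun j => by
          rw [← pow_add, map_pow]; congr 1; omega
        simp only [h2, ← map_sum] at h1
        have h3 : ∑ j : ZMod p, j ^ (p - 1) = -1 := by
          have hp1 : p - 1 ≠ 0 := by omega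
          rw [← Finset.add_sum_erase _ _ (Finset.mem_univ (0 : ZMod p)), zero_pow hp1, zero_add,
            Finset.sum_congr rfl (fun j hj => ZMod.pow_card_sub_one_eq_one (Finset.ne_of_mem_erase hj)),
            Finset.sum_const, Finset.card_erase_of_mem (Finset.mem_univ _), Finset.card_univ,
            ZMod.card, nsmul_one, Nat.cast_sub (by omega), Nat.cast_one, CharP.cast_eq_zero,
            zero_sub]
        rw [h3, map_neg, map_one, neg_eq_zero] at h1
        exact one_ne_zero h1
      have hOeq : O = polySub p K (p - r) :=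
        le_antisymm (hOs ▸ polySub_mono hs') hsub
      exact hOeq ▸ hOinv g f (hOeq ▸ hf)
    intro g
    have hodd : p % 2 = 1 :=
      ((Fact.out : p.Prime).eq_two_or_odd).resolve_left (by omega)
    obtain ⟨a, b, hab⟩ : ∃ a b : ZMod p, ∀ j,
        (C.coord.trans ((toPerm g).trans C.coord.symm)) j = a * j + b := by
      rcases le_total r (p - r) with hle | hle
      · exact affine_of_preserves h2r (by omega) _ (hinv g)
      · exact affine_of_preserves (r := p - r) (by omega) (by omega) _ (hdual g)
    exact ⟨a, b, fun j => by rw [← hab j]; simp⟩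

/-- Burnside's dichotomy in prime degree. -/
theorem CycleCoords.allAffine_or_two_transitive [IsPretransitive G α] (hα : Fintype.card α = p)
    (C : CycleCoords G p) : C.AllAffine ∨ IsMultiplyPretransitive G α 2 := by
  classical
  by_cases hC : C.AllAffine
  · exact Or.inl hC
  right
  have hp : 5 ≤ p := by
    rcases Nat.lt_or_ge p 5 with h | h
    · exfalso
      apply hC
      rcases Nat.lt_or_ge p 4 with h' | h'
      · exact C.allAffine_of_le_three (by omega)
      · exact absurd (show p = 4 by omega ▸ (Fact.out : p.Prime)) (by norm_num)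
    · exact h
  refine two_transitive_of_heart (K := ZMod p) (p := p) (f := 1) le_rfl (by rw [hα, pow_one]) ?_
  intro W W' h₁ hlt h₂
  have hWc := (C.heart hC W.toSubmodule (fun g v hv => W.apply_mem_toSubmodule g hv) h₁
    (hlt.le.trans h₂)).resolve_right fun h => (hlt.trans_le h₂).ne h
  have hW'z := (C.heart hC W'.toSubmodule (fun g v hv => W'.apply_mem_toSubmodule g hv)
    (h₁.trans hlt.le) h₂).resolve_left fun h => (lt_of_le_of_lt h₁ hlt).ne h.symm
  refine ⟨C.gen⁻¹, Pi.single (C.coord 0) 1 - Pi.single (C.coord 1) 1, ?_, ?_⟩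
  · rw [hW'z, mem_permSumZero]
    simp [Finset.sum_sub_distrib, Finset.sum_pi_single']
  · rw [hWc, mem_permConstants]
    rintro ⟨c, hc⟩
    have hne : ∀ {m n : ℕ}, m < p → n < p → m ≠ n → ((m : ℕ) : ZMod p) ≠ n := by
      intro m n hm hn hmn h
      rw [ZMod.natCast_eq_natCast_iff', Nat.mod_eq_of_lt hm, Nat.mod_eq_of_lt hn] at h
      exact hmn h
    have key : ∀ j : ZMod p,
        ((if j + 1 = 0 then (1 : ZMod p) else 0) - if j + 1 = 1 then 1 else 0) -
          ((if j = 0 then 1 else 0) - if j = 1 then 1 else 0) = c := by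
      intro j
      have := hc (C.coord j)
      simp only [Pi.sub_apply, permRep_apply, inv_inv, C.gen_smul, Pi.single_apply,
        EmbeddingLike.apply_eq_iff_eq] at this
      exact this
    have hA := key ((2 : ℕ) : ZMod p)
    have hB := key ((1 : ℕ) : ZMod p)
    have e21 := hne (m := 3) (n := 0) (by omega) (by omega) (by norm_num)
    have e22 := hne (m := 3) (n := 1) (by omega) (by omega) (by norm_num)
    have e23 := hne (m := 2) (n := 0) (by omega) (by omega) (by norm_num)
    have e24 := hne (m := 2) (n := 1) (by omega) (by omega) (by norm_num)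
    have e25 := hne (m := 1) (n := 0) (by omega) (by omega) (by norm_num)
    push_cast at hA hB e21 e22 e23 e24 e25
    simp only [show (2 : ZMod p) + 1 = 3 by norm_num] at hA
    simp only [show (1 : ZMod p) + 1 = 2 by norm_num] at hB
    simp only [if_neg e21, if_neg e22, if_neg e23, if_neg e24, if_neg e25, if_true, sub_zero,
      zero_sub, sub_neg_eq_add, zero_add] at hA hB
    rw [← hA] at hB
    exact one_ne_zero hB

end primeDegree

end Cfsg.Agent.H32
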