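import Mathlib
import Cfsg.Agent.H32.PermModule

/-!
Transitive groups of prime degree `p` whose Sylow `p`-normaliser has even order: in suitable
coordinates the group contains the translation `j ↦ j + 1` generating the Sylow subgroup and a
reflection `j ↦ -j + b`.
-/

set_option autoImplicit false
set_option linter.style.haveILetI false

namespace Cfsg.Agent.H32

open MulAction

variable {α : Type*} [Fintype α] [DecidableEq α] {p : ℕ} [Fact p.Prime]

theorem card_sylow_prime_degree (hα : Fintype.card α = p) (G : Subgroup (Equiv.Perm α))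
    [IsPretransitive G α] (P : Sylow p G) : Nat.card (P : Subgroup G) = p := by
  have hp : p.Prime := Fact.out
  haveI : Nonempty α := Fintype.card_pos_iff.mp (by rw [hα]; exact hp.pos)
  obtain ⟨a⟩ := (inferInstance : Nonempty α)
  have hdvd : p ∣ Nat.card G := by
    have := (stabilizer G a).index_dvd_card
    rwa [index_stabilizer_of_transitive, Nat.card_eq_fintype_card, hα] at this
  rw [Sylow.card_eq_multiplicity]
  have hle : (Nat.card G).factorization p ≤ 1 := by
    have h1 : Nat.card G ∣ p.factorial := by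
      have := Subgroup.card_subgroup_dvd_card G
      rwa [Nat.card_eq_fintype_card (α := Equiv.Perm α), Fintype.card_perm, hα] at this
    have h2 := (Nat.factorization_le_iff_dvd Nat.card_pos.ne' p.factorial_ne_zero).mpr h1 p
    have h3 : p.factorial.factorization p = 1 := by
      rw [← Nat.succ_pred hp.ne_zero, Nat.factorial_succ,
        Nat.factorization_mul (Nat.succ_ne_zero _) (Nat.factorial_ne_zero _), Finsupp.add_apply,
        Nat.succ_pred hp.ne_zero, hp.factorization_self,
        Nat.factorization_eq_zero_of_not_dvd]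
      intro h
      have h' := (Nat.Prime.dvd_factorial hp).mp h
      have := Nat.pred_lt hp.ne_zero
      omega
    omega
  have hge : 1 ≤ (Nat.card G).factorization p := hp.factorization_pos_of_dvd Nat.card_pos.ne' hdvd
  rw [show (Nat.card G).factorization p = 1 by omega, pow_one]

/-- An involution normalising a Sylow `p`-subgroup is a reflection in suitable coordinates. -/
theorem exists_reflection (hα : Fintype.card α = p) (G : Subgroup (Equiv.Perm α))
    [IsPretransitive G α] (P : Sylow p G)
    (heven : Even (Nat.card (Subgroup.normalizer ((P : Subgroup G) : Set G)))) :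
    ∃ (C : CycleCoords G p) (t : G) (b : ZMod p), orderOf t = 2 ∧
      (P : Subgroup G) = Subgroup.zpowers C.gen ∧ ∀ j, t • C.coord j = C.coord (-j + b) := by
  classical
  have hp : p.Prime := Fact.out
  have hP := card_sylow_prime_degree hα G P
  obtain ⟨x, hx⟩ := exists_prime_orderOf_dvd_card' (G := (P : Subgroup G)) p (by rw [hP])
  have hxo : orderOf (x : G) = p := by rw [Subgroup.orderOf_coe, hx]
  obtain ⟨C, hC⟩ := exists_coords_of_order hα (x : G) hxo
  have hPC : (P : Subgroup G) = Subgroup.zpowers C.gen := by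
    refine (Subgroup.eq_of_le_of_card_ge (Subgroup.zpowers_le.mpr (hC ▸ x.2)) ?_).symm
    rw [hP, Nat.card_zpowers, hC, hxo]
  by_cases hp2 : p = 2
  · subst hp2
    refine ⟨C, C.gen, 1, ?_, hPC, fun j => ?_⟩
    · rw [hC, hxo]
    · rw [C.gen_smul, ZMod.neg_eq_self_mod_two]
  haveI : Fact (Nat.Prime 2) := ⟨Nat.prime_two⟩
  obtain ⟨t', ht'⟩ := exists_prime_orderOf_dvd_card'
    (G := Subgroup.normalizer ((P : Subgroup G) : Set G)) 2 heven.two_dvd
  set t : G := (t' : G) with ht
  have hto : orderOf t = 2 := by rw [ht, Subgroup.orderOf_coe, ht']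
  obtain ⟨k, hk⟩ : ∃ k : ℕ, t * C.gen * t⁻¹ = C.gen ^ k := by
    have h1 : t * C.gen * t⁻¹ ∈ Subgroup.zpowers C.gen :=
      hPC ▸ (Subgroup.mem_normalizer_iff.mp t'.2 C.gen).mp (hPC ▸ Subgroup.mem_zpowers C.gen)
    have h3 := IsOfFinOrder.mem_powers_iff_mem_zpowers (isOfFinOrder_of_finite C.gen) |>.mpr h1
    exact h3.imp fun _ h => h.symm
  obtain ⟨b, hb⟩ : ∃ b, t • C.coord 0 = C.coord b :=
    ⟨C.coord.symm (t • C.coord 0), (C.coord.apply_symm_apply _).symm⟩
  have haff : ∀ j : ZMod p, t • C.coord j = C.coord ((k : ZMod p) * j + b) := by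
    intro j
    have h1 : C.coord j = C.gen ^ j.val • C.coord 0 := by
      rw [C.pow_smul, zero_add, ZMod.natCast_zmod_val]
    have h2 : t * C.gen ^ j.val = C.gen ^ (k * j.val) * t := by
      rw [pow_mul, ← hk, conj_pow, inv_mul_cancel_right]
    rw [h1, smul_smul, h2, mul_smul, hb, C.pow_smul, Nat.cast_mul, ZMod.natCast_zmod_val, add_comm]
  refine ⟨C, t, b, hto, hPC, fun j => ?_⟩
  have hsq : t * t = 1 := by rw [← pow_two, ← hto]; exact pow_orderOf_eq_one t
  have hinv : ∀ j : ZMod p, (k : ZMod p) * ((k : ZMod p) * j + b) + b = j := fun j =>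
    C.coord.injective (by rw [← haff, ← haff, smul_smul, hsq, one_smul])
  have h0 := hinv 0
  have h1 := hinv 1
  have hk2 : (k : ZMod p) * k = 1 := by linear_combination h1 - h0
  have hkne : (k : ZMod p) ≠ 1 := by
    intro h
    rw [h] at h0
    have hbb : (2 : ZMod p) * b = 0 := by linear_combination h0
    have htwo : (2 : ZMod p) ≠ 0 := fun h2 => hp2 (by
      rw [show (2 : ZMod p) = ((2 : ℕ) : ZMod p) by norm_num, ZMod.natCast_eq_zero_iff] at h2
      exact (Nat.prime_dvd_prime_iff_eq hp Nat.prime_two).mp h2)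
    have hb0 := (mul_eq_zero.mp hbb).resolve_left htwo
    have : t = 1 := Subtype.ext (Equiv.ext fun z => by
      obtain ⟨j, rfl⟩ := C.coord.surjective z
      have := haff j
      rw [h, hb0, one_mul, add_zero] at this
      exact this)
    rw [this, orderOf_one] at hto
    exact absurd hto (by norm_num)
  have hk1 : (k : ZMod p) = -1 := (mul_self_eq_one_iff.mp hk2).resolve_left hkne
  rw [haff j, hk1, neg_one_mul]

end Cfsg.Agent.H32
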