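import Mathlib
import Cfsg.Prelude.Def_Perm
import Cfsg.Agent.H32.PermModule

/-!
Doubly transitive groups with point stabilisers of even order: either triply transitive, or some
setwise stabiliser of a pair is intransitive on the other points; the resulting equivariant maps
from sum-zero functions to functions on unordered pairs.
-/

set_option autoImplicit false
set_option linter.style.haveILetI false

namespace Cfsg.Agent.H32

open MulAction

variable {G : Type*} [Group G] {Ω : Type*} [MulAction G Ω]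

/-- If every setwise stabiliser of a pair is transitive outside it and some element transposes two
points fixing a third, a doubly transitive group is triply transitive. -/
theorem three_transitive_of_pairs (h2 : IsMultiplyPretransitive G Ω 2)
    (hA : ∀ a b c d : Ω, a ≠ b → c ≠ a → c ≠ b → d ≠ a → d ≠ b →
      ∃ g : G, ((g • a = a ∧ g • b = b) ∨ (g • a = b ∧ g • b = a)) ∧ g • c = d)
    (hB : ∃ (a c d : Ω) (t : G), c ≠ d ∧ a ≠ c ∧ a ≠ d ∧ t • c = d ∧ t • d = c ∧ t • a = a) :
    IsMultiplyPretransitive G Ω 3 := by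
  obtain ⟨a₀, c₀, d₀, t, hcd, hac, had, htc, htd, hta⟩ := hB
  have h2' : ∀ {a b c d : Ω}, a ≠ b → c ≠ d → ∃ g : G, g • a = c ∧ g • b = d :=
    is_two_pretransitive_iff.mp h2
  -- for all distinct `u, v, w` some element transposes `u, v` and fixes `w`
  have hswap : ∀ u v w : Ω, u ≠ v → w ≠ u → w ≠ v → ∃ s : G, s • u = v ∧ s • v = u ∧ s • w = w := by
    intro u v w huv hwu hwv
    obtain ⟨g, hgu, hgv⟩ := h2' hcd huv
    have hgu' : g⁻¹ • u = c₀ := by rw [← hgu, inv_smul_smul]
    have hgv' : g⁻¹ • v = d₀ := by rw [← hgv, inv_smul_smul]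
    have hwa : g • a₀ ≠ u := fun h => hac (smul_left_cancel g (h.trans hgu.symm))
    have hwb : g • a₀ ≠ v := fun h => had (smul_left_cancel g (h.trans hgv.symm))
    obtain ⟨k, hk, hkw⟩ := hA u v (g • a₀) w huv hwa hwb hwu hwv
    have hw' : k⁻¹ • w = g • a₀ := by rw [← hkw, inv_smul_smul]
    refine ⟨k * g * t * g⁻¹ * k⁻¹, ?_⟩
    simp only [mul_smul]
    rcases hk with ⟨hku, hkv⟩ | ⟨hku, hkv⟩
    · have e1 : k⁻¹ • u = u := inv_smul_eq_iff.mpr hku.symm
      have e2 : k⁻¹ • v = v := inv_smul_eq_iff.mpr hkv.symm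
      refine ⟨?_, ?_, ?_⟩
      · rw [e1, hgu', htc, hgv, hkv]
      · rw [e2, hgv', htd, hgu, hku]
      · rw [hw', inv_smul_smul, hta, hkw]
    · have e1 : k⁻¹ • u = v := inv_smul_eq_iff.mpr hkv.symm
      have e2 : k⁻¹ • v = u := inv_smul_eq_iff.mpr hku.symm
      refine ⟨?_, ?_, ?_⟩
      · rw [e1, hgv', htd, hgu, hku]
      · rw [e2, hgu', htc, hgv, hkv]
      · rw [hw', inv_smul_smul, hta, hkw]
  have hpt : ∀ u v z w : Ω, u ≠ v → z ≠ u → z ≠ v → w ≠ u → w ≠ v →
      ∃ g : G, g • u = u ∧ g • v = v ∧ g • z = w := by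
    intro u v z w huv hzu hzv hwu hwv
    obtain ⟨k, hk, hkw⟩ := hA u v z w huv hzu hzv hwu hwv
    rcases hk with ⟨hku, hkv⟩ | ⟨hku, hkv⟩
    · exact ⟨k, hku, hkv, hkw⟩
    · obtain ⟨s, hsu, hsv, hsw⟩ := hswap u v w huv hwu hwv
      exact ⟨s * k, by rw [mul_smul, hku, hsv], by rw [mul_smul, hkv, hsu],
        by rw [mul_smul, hkw, hsw]⟩
  constructor
  intro x y
  obtain ⟨g, hg0, hg1⟩ := h2' (x.injective.ne (show (0 : Fin 3) ≠ 1 by decide))
    (y.injective.ne (show (0 : Fin 3) ≠ 1 by decide))
  obtain ⟨k, hk0, hk1, hk2⟩ := hpt (y 0) (y 1) (g • x 2) (y 2)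
    (y.injective.ne (by decide))
    (fun h => absurd (x.injective (smul_left_cancel g (h.trans hg0.symm))) (by decide))
    (fun h => absurd (x.injective (smul_left_cancel g (h.trans hg1.symm))) (by decide))
    (y.injective.ne (by decide)) (y.injective.ne (by decide))
  refine ⟨k * g, Function.Embedding.ext fun i => ?_⟩
  show (k * g) • x i = y i
  rw [mul_smul]
  fin_cases i
  · show k • g • x 0 = y 0
    rw [hg0, hk0]
  · show k • g • x 1 = y 1
    rw [hg1, hk1]
  · exact hk2

/-- A faithful finite action with a point stabiliser of even order has an element transposing two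
points and fixing a third. -/
theorem exists_swap_of_even [Finite G] [FaithfulSMul G Ω] (a : Ω)
    (heven : Even (Nat.card (stabilizer G a))) :
    ∃ (a c d : Ω) (t : G), c ≠ d ∧ a ≠ c ∧ a ≠ d ∧ t • c = d ∧ t • d = c ∧ t • a = a := by
  haveI : Fact (Nat.Prime 2) := ⟨Nat.prime_two⟩
  obtain ⟨t, ht⟩ := exists_prime_orderOf_dvd_card' (G := stabilizer G a) 2 heven.two_dvd
  have ht2 : (t : G) * t = 1 := by
    have := pow_orderOf_eq_one t
    rw [ht, pow_two] at this
    exact congrArg Subtype.val this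
  obtain ⟨c, hc⟩ : ∃ c : Ω, (t : G) • c ≠ c := by
    by_contra h
    push Not at h
    have : (t : G) = 1 := eq_of_smul_eq_smul fun x : Ω => by rw [h x, one_smul]
    rw [show t = 1 from Subtype.ext this, orderOf_one] at ht
    exact absurd ht (by norm_num)
  have hta : (t : G) • a = a := t.2
  refine ⟨a, c, (t : G) • c, t, Ne.symm hc, fun h => hc (h ▸ hta), fun h => ?_, rfl,
    by rw [smul_smul, ht2, one_smul], hta⟩
  exact hc (by rw [← h, smul_left_cancel (t : G) (hta.trans h)])

set_option maxHeartbeats 1000000 in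
/-- A nonzero equivariant map from sum-zero functions to functions on pairs, killing constants. -/
theorem three_transitive_of_no_map [Finite G] {K : Type*} [Field K] {p : ℕ} [Fact p.Prime] [CharP K p]
    [Fintype Ω] [DecidableEq Ω] [FaithfulSMul G Ω] (h2 : IsMultiplyPretransitive G Ω 2)
    (hp : p ∣ Fintype.card Ω) (heven : ∀ a : Ω, Even (Nat.card (stabilizer G a)))
    (h : ∀ f : Representation.IntertwiningMap (Cfsg.permSumZero K G Ω).toRepresentation
        (Cfsg.permRep K G (Set.powersetCard Ω 2)),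
      (∀ v : (Cfsg.permSumZero K G Ω).toSubmodule,
        (v : Ω → K) ∈ (Cfsg.permConstants K G Ω).toSubmodule → f v = 0) → f = 0) :
    IsMultiplyPretransitive G Ω 3 := by
  classical
  by_contra h3
  haveI : Nonempty Ω := by
    by_contra hne
    rw [not_nonempty_iff] at hne
    exact h3 ⟨fun x => (hne.false (x 0)).elim⟩
  obtain ⟨a₀⟩ := (inferInstance : Nonempty Ω)
  obtain ⟨a, b, c, d, hab, hca, hcb, hda, hdb, hno⟩ : ∃ a b c d : Ω, a ≠ b ∧ c ≠ a ∧ c ≠ b ∧
      d ≠ a ∧ d ≠ b ∧ ∀ g : G, ((g • a = a ∧ g • b = b) ∨ (g • a = b ∧ g • b = a)) → g • c ≠ d := by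
    by_contra hcon
    push Not at hcon
    exact h3 (three_transitive_of_pairs h2 hcon (exists_swap_of_even a₀ (heven a₀)))
  haveI hpt : IsPretransitive G (Set.powersetCard Ω 2) :=
    Set.powersetCard.isPretransitive_of_isMultiplyPretransitive G h2
  let s₀ : Set.powersetCard Ω 2 := ⟨{a, b}, Finset.card_pair hab⟩
  -- the two kinds of weights
  let O : Set.powersetCard Ω 2 → Ω → Prop := fun s z => ∃ g : G, g • s₀ = s ∧ g • c = z
  let w : Set.powersetCard Ω 2 → Ω → K := fun s z =>
    if p = 2 then (if z ∈ (s : Finset Ω) then 1 else 0)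
    else (((Finset.univ.filter fun y => O s₀ y).card : K) * (if z ∈ (s : Finset Ω) then 1 else 0)) -
      2 * (if O s z then 1 else 0)
  have hOg : ∀ (g : G) s z, O (g • s) (g • z) ↔ O s z := by
    intro g s z
    constructor
    · rintro ⟨u, h1, h1'⟩
      exact ⟨g⁻¹ * u, by rw [mul_smul, h1, inv_smul_smul], by rw [mul_smul, h1', inv_smul_smul]⟩
    · rintro ⟨u, h1, h1'⟩
      exact ⟨g * u, by rw [mul_smul, h1], by rw [mul_smul, h1']⟩
  have hmem : ∀ (g : G) (s : Set.powersetCard Ω 2) (z : Ω),
      g • z ∈ ((g • s : Set.powersetCard Ω 2) : Finset Ω) ↔ z ∈ (s : Finset Ω) := by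
    intro g s z
    rw [Set.powersetCard.coe_smul, Finset.smul_mem_smul_finset_iff]
  have hwg : ∀ (g : G) s z, w (g • s) (g • z) = w s z := by
    intro g s z
    simp only [w, hOg, hmem]
  have hsum : ∀ s, ∑ z, w s z = 0 := by
    intro s
    obtain ⟨g, rfl⟩ := exists_smul_eq G s₀ s
    rw [← Fintype.sum_equiv (toPerm g) (fun z => w s₀ z) _ fun z => (hwg g s₀ z).symm]
    have hs2 : ∑ z, (if z ∈ (s₀ : Finset Ω) then (1 : K) else 0) = 2 := by
      rw [Finset.sum_boole, Finset.filter_mem_eq_inter, Finset.univ_inter, Set.powersetCard.card_eq]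
      norm_num
    by_cases hp2 : p = 2
    · simp only [w, if_pos hp2, hs2]
      subst hp2
      exact CharP.cast_eq_zero K 2
    · simp only [w, if_neg hp2, Finset.sum_sub_distrib, ← Finset.mul_sum, hs2, Finset.sum_boole]
      ring
  let T : Representation.IntertwiningMap (Cfsg.permSumZero K G Ω).toRepresentation
      (Cfsg.permRep K G (Set.powersetCard Ω 2)) :=
    { toFun := fun v s => ∑ z, w s z * (v : Ω → K) z
      map_add' := fun u v => by
        funext s; simp [mul_add, Finset.sum_add_distrib]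
      map_smul' := fun k v => by
        funext s; simp [Finset.mul_sum, mul_left_comm]
      isIntertwining' := fun g => by
        refine LinearMap.ext fun v => funext fun s => ?_
        show ∑ z, w s z * (v : Ω → K) (g⁻¹ • z) = ∑ z, w (g⁻¹ • s) z * (v : Ω → K) z
        refine Fintype.sum_equiv (toPerm g⁻¹) _ _ fun z => ?_
        simp [hwg] }
  have hT0 : T = 0 := h T fun v hv => by
    obtain ⟨k, hk⟩ := mem_permConstants.mp hv
    funext s
    show ∑ z, w s z * (v : Ω → K) z = 0
    simp only [hk, ← Finset.sum_mul, hsum, zero_mul]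
  -- a witness
  have hwit : ∀ u v : Ω, w s₀ u = w s₀ v := by
    intro u v
    have hm : Pi.single u (1 : K) - Pi.single v 1 ∈ (Cfsg.permSumZero K G Ω).toSubmodule := by
      rw [mem_permSumZero]
      simp [Finset.sum_sub_distrib, Finset.sum_pi_single']
    have := congrFun (DFunLike.congr_fun hT0 ⟨_, hm⟩) s₀
    change ∑ z, w s₀ z * (Pi.single u (1 : K) - Pi.single v 1 : Ω → K) z = 0 at this
    simpa [mul_sub, Finset.sum_sub_distrib, Pi.single_apply, sub_eq_zero] using this
  have hcs : c ∉ (s₀ : Finset Ω) := by simp [s₀, hca, hcb]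
  have hds : d ∉ (s₀ : Finset Ω) := by simp [s₀, hda, hdb]
  by_cases hp2 : p = 2
  · have := hwit a c
    simp only [w, if_pos hp2, if_neg hcs] at this
    rw [if_pos (by simp [s₀])] at this
    exact one_ne_zero this
  · have hOc : O s₀ c := ⟨1, one_smul _ _, one_smul _ _⟩
    have hOd : ¬ O s₀ d := by
      rintro ⟨g, hgs, hgc⟩
      refine hno g ?_ hgc
      have hga := (hmem g s₀ a).mpr (by simp [s₀])
      have hgb := (hmem g s₀ b).mpr (by simp [s₀])
      rw [hgs] at hga hgb
      simp only [s₀, Finset.mem_insert, Finset.mem_singleton] at hga hgb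
      rcases hga with h1 | h1 <;> rcases hgb with h1' | h1'
      · exact absurd (smul_left_cancel g (h1.trans h1'.symm)) hab
      · exact Or.inl ⟨h1, h1'⟩
      · exact Or.inr ⟨h1, h1'⟩
      · exact absurd (smul_left_cancel g (h1.trans h1'.symm)) hab
    have := hwit c d
    simp only [w, if_neg hp2, if_neg hcs, if_neg hds, if_pos hOc, if_neg hOd, mul_zero, mul_one,
      zero_sub, sub_self, neg_eq_zero] at this
    rw [show (2 : K) = ((2 : ℕ) : K) by norm_num, CharP.cast_eq_zero_iff K p] at this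
    exact hp2 (((Nat.prime_dvd_prime_iff_eq Fact.out Nat.prime_two).mp this))

end Cfsg.Agent.H32
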