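import Mathlib

/-!
Linear groups regular on the non-zero vectors: minimal invariant subspaces of normal subgroups,
their stabilisers, and the commutativity of reducible normal subgroups.
-/

set_option autoImplicit false
set_option linter.style.haveILetI false

namespace Cfsg.Agent.H32

variable {p : ℕ} {V : Type*} [AddCommGroup V] [Module (ZMod p) V]
  {H : Subgroup (V ≃ₗ[ZMod p] V)}

/-- `H` is regular on the non-zero vectors. -/
def Regular (H : Subgroup (V ≃ₗ[ZMod p] V)) : Prop :=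
  ∀ v w : V, v ≠ 0 → w ≠ 0 → ∃! h : H, (h : V ≃ₗ[ZMod p] V) v = w

/-- `W` is invariant under `N`. -/
def Inv (N : Subgroup H) (W : Submodule (ZMod p) V) : Prop :=
  ∀ n ∈ N, ∀ v ∈ W, ((n : H) : V ≃ₗ[ZMod p] V) v ∈ W

/-- `W` is a minimal invariant subspace. -/
def Irr (N : Subgroup H) (W : Submodule (ZMod p) V) : Prop :=
  W ≠ ⊥ ∧ Inv N W ∧ ∀ W' : Submodule (ZMod p) V, W' ≤ W → Inv N W' → W' = ⊥ ∨ W' = W

/-- The image of a subspace. -/
def img (h : H) (W : Submodule (ZMod p) V) : Submodule (ZMod p) V :=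
  W.map ((h : V ≃ₗ[ZMod p] V) : V →ₗ[ZMod p] V)

/-- The stabiliser of a subspace. -/
def setStab (H : Subgroup (V ≃ₗ[ZMod p] V)) (W : Submodule (ZMod p) V) : Subgroup H where
  carrier := {h | ∀ v, (h : V ≃ₗ[ZMod p] V) v ∈ W ↔ v ∈ W}
  one_mem' := fun v => Iff.rfl
  mul_mem' := fun {g h} hg hh v => (hg ((h : V ≃ₗ[ZMod p] V) v)).trans (hh v)
  inv_mem' := fun {h} hh v => by
    have := hh ((h : V ≃ₗ[ZMod p] V).symm v)
    rw [LinearEquiv.apply_symm_apply] at this
    exact this.symm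

theorem exists_irr [Finite V] (N : Subgroup H) {W : Submodule (ZMod p) V} (hW : Inv N W)
    (hne : W ≠ ⊥) : ∃ W₀ ≤ W, Irr N W₀ := by
  obtain ⟨W₀, hle, hmin⟩ := (Set.toFinite {U : Submodule (ZMod p) V | Inv N U ∧ U ≠ ⊥}).exists_le_minimal
    (show W ∈ {U : Submodule (ZMod p) V | Inv N U ∧ U ≠ ⊥} from ⟨hW, hne⟩)
  obtain ⟨⟨h1, h2⟩, h3⟩ := hmin
  refine ⟨W₀, hle, h2, h1, fun U hU hUi => ?_⟩
  by_cases hU0 : U = ⊥
  · exact Or.inl hU0
  · exact Or.inr (le_antisymm hU (h3 ⟨hUi, hU0⟩ hU))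

theorem Irr.img {N : Subgroup H} [hN : N.Normal] {W : Submodule (ZMod p) V} (hW : Irr N W) (h : H) :
    Irr N (img h W) := by
  have hinv : ∀ (g : H) (U : Submodule (ZMod p) V), Inv N U → Inv N (H32.img g U) := by
    rintro g U hU n hn _ ⟨u, hu, rfl⟩
    refine ⟨((g⁻¹ * n * g : H) : V ≃ₗ[ZMod p] V) u, hU _ (by simpa using hN.conj_mem n hn g⁻¹) u hu, ?_⟩
    show (g : V ≃ₗ[ZMod p] V) (((g⁻¹ * n * g : H) : V ≃ₗ[ZMod p] V) u) = _
    rw [← LinearEquiv.mul_apply, ← Subgroup.coe_mul, mul_assoc, mul_inv_cancel_left]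
    rfl
  have hback : ∀ U : Submodule (ZMod p) V, H32.img h (H32.img h⁻¹ U) = U := fun U => by
    ext v
    constructor
    · rintro ⟨_, ⟨u, hu, rfl⟩, rfl⟩
      show (h : V ≃ₗ[ZMod p] V) ((h : V ≃ₗ[ZMod p] V).symm u) ∈ U
      rwa [LinearEquiv.apply_symm_apply]
    · exact fun hv => ⟨_, ⟨v, hv, rfl⟩, (h : V ≃ₗ[ZMod p] V).apply_symm_apply v⟩
  refine ⟨fun he => hW.1 ?_, hinv h W hW.2.1, fun U hU hUi => ?_⟩
  · exact Submodule.map_injective_of_injective (h : V ≃ₗ[ZMod p] V).injective (he.trans (Submodule.map_bot _).symm)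
  · have hle : H32.img h⁻¹ U ≤ W := by
      rintro _ ⟨u, hu, rfl⟩
      obtain ⟨w, hw, rfl⟩ := hU hu
      show (h : V ≃ₗ[ZMod p] V).symm ((h : V ≃ₗ[ZMod p] V) w) ∈ W
      rwa [LinearEquiv.symm_apply_apply]
    rcases hW.2.2 _ hle (hinv h⁻¹ U hUi) with e | e
    · left; rw [← hback U, e, H32.img, Submodule.map_bot]
    · right; rw [← hback U, e]

theorem Irr.eq_of_mem {N : Subgroup H} {W W' : Submodule (ZMod p) V} (hW : Irr N W) (hW' : Irr N W')
    {v : V} (hv : v ∈ W) (hv' : v ∈ W') (h0 : v ≠ 0) : W = W' := by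
  have hinv : Inv N (W ⊓ W') := fun n hn u hu => ⟨hW.2.1 n hn u hu.1, hW'.2.1 n hn u hu.2⟩
  have hne : W ⊓ W' ≠ ⊥ := fun h => h0 ((Submodule.mem_bot (R := ZMod p)).mp (h ▸ ⟨hv, hv'⟩))
  rw [← (hW.2.2 _ inf_le_left hinv).resolve_left hne, (hW'.2.2 _ inf_le_right hinv).resolve_left hne]

theorem Regular.eq_one (hreg : Regular H) {h : H} {v : V} (hv : v ≠ 0)
    (h1 : (h : V ≃ₗ[ZMod p] V) v = v) : h = 1 :=
  (hreg v v hv hv).unique h1 rfl

/-- Every vector lies in an image of a given non-zero subspace. -/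
theorem exists_img (hreg : Regular H) {W : Submodule (ZMod p) V} (hne : W ≠ ⊥) {v : V} (hv : v ≠ 0) :
    ∃ h : H, v ∈ img h W := by
  obtain ⟨w, hw, hw0⟩ := Submodule.exists_mem_ne_zero_of_ne_bot hne
  obtain ⟨h, hh, -⟩ := hreg w v hw0 hv
  exact ⟨h, w, hw, hh⟩

theorem card_regular [Finite V] [Nontrivial V] (hreg : Regular H) : Nat.card H = Nat.card V - 1 := by
  obtain ⟨v, hv⟩ := exists_ne (0 : V)
  have e : Nat.card H = Nat.card {w : V // w ≠ 0} := by
    refine Nat.card_eq_of_bijective (fun h => ⟨(h : V ≃ₗ[ZMod p] V) v,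
      fun e => hv ((h : V ≃ₗ[ZMod p] V).map_eq_zero_iff.mp e)⟩) ⟨fun g h e => ?_, fun w => ?_⟩
    · exact (hreg v _ hv (fun e' => hv ((h : V ≃ₗ[ZMod p] V).map_eq_zero_iff.mp e'))).unique
        (congrArg Subtype.val e) rfl
    · obtain ⟨h, hh, -⟩ := hreg v w hv w.2
      exact ⟨h, Subtype.ext hh⟩
  classical
  cases nonempty_fintype V
  rw [e, Nat.card_eq_fintype_card, Fintype.card_subtype_compl, Fintype.card_subtype_eq,
    Nat.card_eq_fintype_card]

theorem card_pow_finrank [Fact p.Prime] [Finite V] (W : Submodule (ZMod p) V) :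
    Nat.card W = p ^ Module.finrank (ZMod p) W := by
  rw [Module.natCard_eq_pow_finrank (K := ZMod p) (V := W), Nat.card_zmod]

/-- The stabiliser of a minimal invariant subspace is regular on its non-zero vectors. -/
theorem card_setStab [Fact p.Prime] [Finite V] (hreg : Regular H) {N : Subgroup H} [N.Normal]
    {W : Submodule (ZMod p) V} (hW : Irr N W) :
    Nat.card (setStab H W) = p ^ Module.finrank (ZMod p) W - 1 := by
  obtain ⟨w, hw, hw0⟩ := Submodule.exists_mem_ne_zero_of_ne_bot hW.1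
  have e : Nat.card (setStab H W) = Nat.card {u : W // u ≠ 0} := by
    refine Nat.card_eq_of_bijective (fun h => ⟨⟨((h : H) : V ≃ₗ[ZMod p] V) w, (h.2 w).mpr hw⟩,
      fun e => hw0 (((h : H) : V ≃ₗ[ZMod p] V).map_eq_zero_iff.mp (congrArg Subtype.val e))⟩)
      ⟨fun g h e => ?_, fun u => ?_⟩
    · exact Subtype.ext ((hreg w _ hw0
        (fun e' => hw0 (((h : H) : V ≃ₗ[ZMod p] V).map_eq_zero_iff.mp e'))).unique
        (congrArg (fun x => ((x : W) : V)) (congrArg Subtype.val e)) rfl)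
    · have hu0 : (u.1 : V) ≠ 0 := fun e => u.2 (Subtype.ext e)
      obtain ⟨h, hh, -⟩ := hreg w u.1 hw0 hu0
      have hWW : img h W = W := (hW.img h).eq_of_mem hW ⟨w, hw, hh⟩ u.1.2 hu0
      refine ⟨⟨h, fun v => ⟨fun hv => ?_, fun hv => ?_⟩⟩, Subtype.ext (Subtype.ext hh)⟩
      · have hv' : (h : V ≃ₗ[ZMod p] V) v ∈ img h W := hWW.symm ▸ hv
        obtain ⟨v', hv', e'⟩ := hv'
        exact (h : V ≃ₗ[ZMod p] V).injective e' ▸ hv'
      · exact hWW.le ⟨v, hv, rfl⟩
  classical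
  cases nonempty_fintype W
  rw [e, Nat.card_eq_fintype_card, Fintype.card_subtype_compl, Fintype.card_subtype_eq,
    ← Nat.card_eq_fintype_card, card_pow_finrank]

theorem finrank_dvd [Fact p.Prime] [Finite V] (hreg : Regular H) {N : Subgroup H} [N.Normal]
    {W : Submodule (ZMod p) V} (hW : Irr N W) :
    Module.finrank (ZMod p) W ∣ Module.finrank (ZMod p) V := by
  haveI : Module.Finite (ZMod p) V := Module.Finite.of_finite
  haveI : Nontrivial V := by
    obtain ⟨w, -, hw0⟩ := Submodule.exists_mem_ne_zero_of_ne_bot hW.1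
    exact ⟨⟨w, 0, hw0⟩⟩
  have h1 := (setStab H W).card_subgroup_dvd_card
  rw [card_setStab hreg hW, card_regular hreg, Module.natCard_eq_pow_finrank (K := ZMod p) (V := V),
    Nat.card_zmod] at h1
  set a := Module.finrank (ZMod p) W with ha
  set b := Module.finrank (ZMod p) V with hb
  have h2 := Nat.pow_sub_one_gcd_pow_sub_one p a b
  rw [Nat.gcd_eq_left h1] at h2
  have hp := (Fact.out : p.Prime)
  have h3 : p ^ a = p ^ a.gcd b := by
    have := Nat.one_le_pow a p hp.pos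
    have := Nat.one_le_pow (a.gcd b) p hp.pos
    omega
  rw [Nat.pow_right_injective hp.two_le h3]
  exact Nat.gcd_dvd_right a b

/-- The endomorphisms of `W` induced by a subgroup. -/
def restrictHom {N : Subgroup H} {W : Submodule (ZMod p) V} (hW : Inv N W) : N →* Module.End (ZMod p) W where
  toFun n := (((n : H) : V ≃ₗ[ZMod p] V) : V →ₗ[ZMod p] V).restrict (hW n n.2)
  map_one' := rfl
  map_mul' _ _ := rfl

theorem restrictHom_apply {N : Subgroup H} {W : Submodule (ZMod p) V} (hW : Inv N W) (n : N) (w : W) :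
    (restrictHom hW n w : V) = ((n : H) : V ≃ₗ[ZMod p] V) w := rfl

/-- The endomorphisms commuting with the action. -/
noncomputable def commutant {N : Subgroup H} {W : Submodule (ZMod p) V} (hW : Inv N W) :
    Subalgebra (ZMod p) (Module.End (ZMod p) W) :=
  Subalgebra.centralizer (ZMod p) (Set.range (restrictHom hW))

theorem Irr.nontrivial {N : Subgroup H} {W : Submodule (ZMod p) V} (hW : Irr N W) : Nontrivial W := by
  obtain ⟨w, hw, hw0⟩ := Submodule.exists_mem_ne_zero_of_ne_bot hW.1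
  exact ⟨⟨⟨w, hw⟩, 0, fun h => hw0 (congrArg Subtype.val h)⟩⟩

theorem Irr.injective_of_commute {N : Subgroup H} {W : Submodule (ZMod p) V} (hW : Irr N W)
    {r : Module.End (ZMod p) W} (hr : r ∈ commutant hW.2.1) (h0 : r ≠ 0) : Function.Injective r := by
  have hinv : Inv N ((LinearMap.ker r).map W.subtype) := by
    rintro n hn _ ⟨w, hw, rfl⟩
    refine ⟨restrictHom hW.2.1 ⟨n, hn⟩ w, ?_, rfl⟩
    have hc := LinearMap.congr_fun ((Subalgebra.mem_centralizer_iff (ZMod p)).mp hr _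
      ⟨⟨n, hn⟩, rfl⟩) w
    simp only [Module.End.mul_apply] at hc
    rw [SetLike.mem_coe, LinearMap.mem_ker] at hw ⊢
    rw [← hc, hw, map_zero]
  rcases hW.2.2 _ (Submodule.map_subtype_le _ _) hinv with h | h
  · exact LinearMap.ker_eq_bot.mp
      (Submodule.map_injective_of_injective W.injective_subtype (h.trans (Submodule.map_bot _).symm))
  · exfalso
    apply h0
    have ht : LinearMap.ker r = ⊤ := by
      apply Submodule.map_injective_of_injective W.injective_subtype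
      rw [h, Submodule.map_top, Submodule.range_subtype]
    exact LinearMap.ker_eq_top.mp ht

theorem Irr.noZeroDivisors {N : Subgroup H} {W : Submodule (ZMod p) V} (hW : Irr N W) :
    NoZeroDivisors (commutant hW.2.1) := by
  refine ⟨fun {a b} hab => ?_⟩
  by_contra hc
  push Not at hc
  have ha := hW.injective_of_commute a.2 fun h => hc.1 (Subtype.ext h)
  apply hc.2
  refine Subtype.ext (LinearMap.ext fun w => ha ?_)
  have := LinearMap.congr_fun (congrArg Subtype.val hab) w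
  exact this.trans (map_zero _).symm

/-- The commutant of a minimal invariant subspace is a finite domain, hence commutative. -/
theorem Irr.commutant_comm [Finite V] {N : Subgroup H} {W : Submodule (ZMod p) V} (hW : Irr N W)
    (a b : commutant hW.2.1) : a * b = b * a := by
  haveI : Finite (Module.End (ZMod p) W) := Finite.of_injective _ DFunLike.coe_injective
  haveI := hW.noZeroDivisors
  haveI := hW.nontrivial
  haveI : Nontrivial (commutant hW.2.1) := inferInstance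
  haveI : IsDomain (commutant hW.2.1) := NoZeroDivisors.to_isDomain _
  exact (Finite.isDomain_to_isField (commutant hW.2.1)).mul_comm a b

theorem Irr.equiv_of_mem {N : Subgroup H} [N.Normal] {W W' : Submodule (ZMod p) V} (hreg : Regular H)
    (hW : Irr N W) (hW' : Irr N W') (hne : W ≠ W') {v w : V} (hv : v ∈ W) (hv0 : v ≠ 0)
    (hw : w ∈ W') (hw0 : w ≠ 0) :
    ∃ f : W →ₗ[ZMod p] W', Function.Bijective f ∧ f ⟨v, hv⟩ = ⟨w, hw⟩ ∧
      ∀ (n : H) (hn : n ∈ N) (x : W), (f ⟨(n : V ≃ₗ[ZMod p] V) x, hW.2.1 n hn x x.2⟩ : V) =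
        (n : V ≃ₗ[ZMod p] V) (f x) := by
  have hvw : v + w ≠ 0 := fun h => hne (hW.eq_of_mem hW' hv
    (by rw [eq_neg_of_add_eq_zero_left h]; exact W'.neg_mem hw) hv0)
  obtain ⟨h, hh⟩ := exists_img hreg hW.1 hvw
  set U := H32.img h W with hU
  have hUi : Irr N U := hW.img h
  have hdisj : ∀ x, x ∈ W → x ∈ W' → x = 0 := fun x h1 h2 =>
    by_contra fun h0 => hne (hW.eq_of_mem hW' h1 h2 h0)
  have hsum : U ≤ W ⊔ W' := by
    have hinv : Inv N (U ⊓ (W ⊔ W')) := by
      rintro n hn u ⟨hu, hu'⟩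
      refine ⟨hUi.2.1 n hn u hu, ?_⟩
      obtain ⟨a, ha, b, hb, rfl⟩ := Submodule.mem_sup.mp hu'
      rw [map_add]
      exact Submodule.add_mem_sup (hW.2.1 n hn a ha) (hW'.2.1 n hn b hb)
    rcases hUi.2.2 _ inf_le_left hinv with e | e
    · exact absurd ((Submodule.mem_bot (R := ZMod p)).mp (e ▸ ⟨hh, Submodule.add_mem_sup hv hw⟩)) hvw
    · exact e ▸ inf_le_right
  have hUW : ∀ x, x ∈ U → x ∈ W → x = 0 := fun x hxU hxW => by_contra fun h0 => by
    have e := hUi.eq_of_mem hW hxU hxW h0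
    rw [e] at hh
    exact hw0 (hdisj w (by simpa using W.sub_mem hh hv) hw)
  have hUW' : ∀ x, x ∈ U → x ∈ W' → x = 0 := fun x hxU hxW => by_contra fun h0 => by
    have e := hUi.eq_of_mem hW' hxU hxW h0
    rw [e] at hh
    exact hv0 (hdisj v hv (by simpa using W'.sub_mem hh hw))
  -- the relation is total
  let P : Submodule (ZMod p) V :=
    { carrier := {x | x ∈ W ∧ ∃ y ∈ W', x + y ∈ U}
      zero_mem' := ⟨W.zero_mem, 0, W'.zero_mem, by simp⟩
      add_mem' := by
        rintro x x' ⟨hx, y, hy, hxy⟩ ⟨hx', y', hy', hxy'⟩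
        exact ⟨W.add_mem hx hx', y + y', W'.add_mem hy hy', by rw [add_add_add_comm]; exact U.add_mem hxy hxy'⟩
      smul_mem' := by
        rintro c x ⟨hx, y, hy, hxy⟩
        exact ⟨W.smul_mem c hx, c • y, W'.smul_mem c hy, by rw [← smul_add]; exact U.smul_mem c hxy⟩ }
  have hP : P = W := (hW.2.2 P (fun x hx => hx.1) (by
      rintro n hn x ⟨hx, y, hy, hxy⟩
      exact ⟨hW.2.1 n hn x hx, _, hW'.2.1 n hn y hy, by rw [← map_add]; exact hUi.2.1 n hn _ hxy⟩)).resolve_left
    fun e => hv0 ((Submodule.mem_bot (R := ZMod p)).mp (e ▸ (⟨hv, w, hw, hh⟩ : v ∈ P)))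
  have hex : ∀ x : W, ∃ y : W', (x : V) + y ∈ U := fun x => by
    obtain ⟨-, y, hy, hxy⟩ := (hP.symm ▸ x.2 : (x : V) ∈ P)
    exact ⟨⟨y, hy⟩, hxy⟩
  choose g hg using hex
  have huniq : ∀ (x : W) (y : W'), (x : V) + y ∈ U → y = g x := fun x y hy => by
    refine sub_eq_zero.mp (Subtype.ext (hUW' _ ?_ (y - g x).2))
    have := U.sub_mem hy (hg x)
    rwa [add_sub_add_left_eq_sub] at this
  let f : W →ₗ[ZMod p] W' :=
    { toFun := g
      map_add' := fun x x' => (huniq (x + x') (g x + g x') (by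
        show ((x : V) + x') + ((g x : V) + g x') ∈ U
        rw [add_add_add_comm]; exact U.add_mem (hg x) (hg x'))).symm
      map_smul' := fun c x => (huniq (c • x) (c • g x) (by
        show c • (x : V) + c • (g x : V) ∈ U
        rw [← smul_add]; exact U.smul_mem c (hg x))).symm }
  have hequiv : ∀ (n : H) (hn : n ∈ N) (x : W),
      (f ⟨(n : V ≃ₗ[ZMod p] V) x, hW.2.1 n hn x x.2⟩ : V) = (n : V ≃ₗ[ZMod p] V) (f x) := by
    intro n hn x
    refine congrArg Subtype.val (huniq ⟨_, hW.2.1 n hn x x.2⟩ ⟨_, hW'.2.1 n hn _ (g x).2⟩ ?_).symm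
    show (n : V ≃ₗ[ZMod p] V) x + (n : V ≃ₗ[ZMod p] V) (g x) ∈ U
    rw [← map_add]; exact hUi.2.1 n hn _ (hg x)
  refine ⟨f, ⟨?_, fun y => ?_⟩, (huniq ⟨v, hv⟩ ⟨w, hw⟩ hh).symm, hequiv⟩
  · refine (injective_iff_map_eq_zero f).mpr fun x hx => Subtype.ext (hUW _ ?_ x.2)
    have h1 := hg x
    rw [show g x = 0 from hx] at h1
    simpa using h1
  · have hrinv : Inv N ((LinearMap.range f).map W'.subtype) := by
      rintro n hn _ ⟨_, ⟨x, rfl⟩, rfl⟩
      exact ⟨_, ⟨⟨_, hW.2.1 n hn x x.2⟩, rfl⟩, hequiv n hn x⟩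
    rcases hW'.2.2 _ (Submodule.map_subtype_le _ _) hrinv with e | e
    · exfalso
      apply hw0
      refine (Submodule.mem_bot (R := ZMod p)).mp (e ▸ ?_)
      exact ⟨f ⟨v, hv⟩, ⟨_, rfl⟩, congrArg Subtype.val (huniq ⟨v, hv⟩ ⟨w, hw⟩ hh).symm⟩
    · have hy : (y : V) ∈ (LinearMap.range f).map W'.subtype := by rw [e]; exact y.2
      obtain ⟨_, ⟨x, rfl⟩, hxy⟩ := hy
      exact ⟨x, Subtype.ext hxy⟩

/-- A reducible normal subgroup of a regular linear group is commutative. -/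
theorem isMulCommutative_of_reducible [Finite V] (hreg : Regular H) {N : Subgroup H} [N.Normal]
    {W₀ : Submodule (ZMod p) V} (hW₀ : Inv N W₀) (h1 : W₀ ≠ ⊥) (h2 : W₀ ≠ ⊤) :
    IsMulCommutative N := by
  obtain ⟨W, hWle, hW⟩ := exists_irr N hW₀ h1
  have hWtop : W ≠ ⊤ := fun h => h2 (top_le_iff.mp (h ▸ hWle))
  obtain ⟨u, hu⟩ : ∃ u, u ∉ W := by
    by_contra h
    push Not at h
    exact hWtop (eq_top_iff.mpr fun x _ => h x)
  obtain ⟨h, hh⟩ := exists_img hreg hW.1 (v := u) (fun e => hu (e ▸ W.zero_mem))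
  set W' := H32.img h W with hW'def
  have hW' : Irr N W' := hW.img h
  have hne : W ≠ W' := fun e => hu (e ▸ hh)
  have hu0 : u ≠ 0 := fun e => hu (e ▸ W.zero_mem)
  obtain ⟨v, hv, hv0⟩ := Submodule.exists_mem_ne_zero_of_ne_bot hW.1
  -- the commutant is transitive
  have trans : ∀ x ∈ W, x ≠ 0 → ∀ hx : x ∈ W, ∃ r ∈ commutant hW.2.1, r ⟨v, hv⟩ = ⟨x, hx⟩ := by
    intro x _ hx0 hx
    obtain ⟨f, -, hfv, hfe⟩ := hW.equiv_of_mem hreg hW' hne hv hv0 hh hu0
    obtain ⟨g, hgb, hgx, hge⟩ := hW.equiv_of_mem hreg hW' hne hx hx0 hh hu0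
    let e := LinearEquiv.ofBijective g hgb
    refine ⟨e.symm.toLinearMap.comp f, (Subalgebra.mem_centralizer_iff (ZMod p)).mpr ?_, ?_⟩
    · rintro _ ⟨n, rfl⟩
      refine LinearMap.ext fun y => e.injective (Subtype.ext ?_)
      simp only [Module.End.mul_apply, LinearMap.comp_apply, LinearEquiv.coe_coe, LinearEquiv.apply_symm_apply]
      have h3 := hge n n.2 (e.symm (f y))
      rw [show g (e.symm (f y)) = f y from e.apply_symm_apply _] at h3
      exact h3.trans (hfe n n.2 y).symm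
    · show e.symm (f ⟨v, hv⟩) = _
      rw [hfv, ← hgx]
      exact e.symm_apply_apply _
  refine ⟨⟨fun n n' => ?_⟩⟩
  have hmove : ∀ m : N, ∃ r ∈ commutant hW.2.1, r ⟨v, hv⟩ = restrictHom hW.2.1 m ⟨v, hv⟩ := fun m => by
    have h0 : ((m : H) : V ≃ₗ[ZMod p] V) v ≠ 0 := fun e => hv0 (((m : H) : V ≃ₗ[ZMod p] V).map_eq_zero_iff.mp e)
    exact trans _ (hW.2.1 m m.2 v hv) h0 _
  obtain ⟨a, ha, hav⟩ := hmove n
  obtain ⟨b, hb, hbv⟩ := hmove n'
  have hcomm : ∀ (r : Module.End (ZMod p) W), r ∈ commutant hW.2.1 → ∀ (m : N) (y : W),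
      restrictHom hW.2.1 m (r y) = r (restrictHom hW.2.1 m y) := fun r hr m y =>
    LinearMap.congr_fun ((Subalgebra.mem_centralizer_iff (ZMod p)).mp hr _ ⟨m, rfl⟩) y
  have h1' : restrictHom hW.2.1 (n * n') ⟨v, hv⟩ = (b * a) ⟨v, hv⟩ := by
    rw [map_mul, Module.End.mul_apply, Module.End.mul_apply, ← hbv, hcomm b hb, hav]
  have h2' : restrictHom hW.2.1 (n' * n) ⟨v, hv⟩ = (a * b) ⟨v, hv⟩ := by
    rw [map_mul, Module.End.mul_apply, Module.End.mul_apply, ← hav, hcomm a ha, hbv]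
  rw [show a * b = b * a from congrArg Subtype.val (hW.commutant_comm ⟨a, ha⟩ ⟨b, hb⟩), ← h1'] at h2'
  have h3 : (((n * n' : N) : H) : V ≃ₗ[ZMod p] V) v = (((n' * n : N) : H) : V ≃ₗ[ZMod p] V) v :=
    (congrArg Subtype.val h2').symm
  exact Subtype.ext ((hreg v _ hv0
    (fun e => hv0 ((((n' * n : N) : H) : V ≃ₗ[ZMod p] V).map_eq_zero_iff.mp e))).unique h3 rfl)

/-- The centraliser of an irreducible subgroup is commutative. -/
theorem isMulCommutative_centralizer [Finite V] [Nontrivial V] (hreg : Regular H) {N : Subgroup H}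
    (hirr : ∀ W : Submodule (ZMod p) V, Inv N W → W = ⊥ ∨ W = ⊤) :
    IsMulCommutative (Subgroup.centralizer (N : Set H)) := by
  obtain ⟨v, hv⟩ := exists_ne (0 : V)
  have hW : Irr N (⊤ : Submodule (ZMod p) V) :=
    ⟨(bot_lt_top).ne', fun _ _ _ _ => trivial, fun W' _ h => hirr W' h⟩
  have hmem : ∀ c : Subgroup.centralizer (N : Set H),
      (((c : H) : V ≃ₗ[ZMod p] V) : V →ₗ[ZMod p] V).restrict (p := ⊤) (q := ⊤) (fun _ _ => trivial) ∈
        commutant hW.2.1 := by
    intro c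
    rw [commutant, Subalgebra.mem_centralizer_iff]
    rintro _ ⟨n, rfl⟩
    refine LinearMap.ext fun y => Subtype.ext ?_
    have h := Subgroup.mem_centralizer_iff.mp c.2 n n.2
    exact congrArg (fun g : H => (g : V ≃ₗ[ZMod p] V) y) h
  refine ⟨⟨fun c d => Subtype.ext ?_⟩⟩
  have h := congrArg (fun r : commutant hW.2.1 => (r.1 ⟨v, trivial⟩ : V))
    (hW.commutant_comm ⟨_, hmem c⟩ ⟨_, hmem d⟩)
  exact (hreg v _ hv (fun e => hv ((((d * c : Subgroup.centralizer (N : Set H)) : H) : V ≃ₗ[ZMod p] V).map_eq_zero_iff.mp e))).unique h rfl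

/-- An abelian subgroup with a minimal invariant subspace is cyclic. -/
theorem isCyclic_of_irr [Finite V] (hreg : Regular H) {A : Subgroup H} (hA : IsMulCommutative A)
    {W : Submodule (ZMod p) V} (hW : Irr A W) : IsCyclic A := by
  haveI : Finite (Module.End (ZMod p) W) := Finite.of_injective _ DFunLike.coe_injective
  haveI := hW.noZeroDivisors
  haveI := hW.nontrivial
  letI : CommRing (commutant hW.2.1) :=
    { (inferInstance : Ring (commutant hW.2.1)) with mul_comm := hW.commutant_comm }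
  haveI : IsDomain (commutant hW.2.1) := NoZeroDivisors.to_isDomain _
  have hmem : ∀ a, restrictHom hW.2.1 a ∈ commutant hW.2.1 := by
    intro a
    rw [commutant, Subalgebra.mem_centralizer_iff]
    rintro _ ⟨b, rfl⟩
    rw [← map_mul, ← map_mul, hA.is_comm.comm]
  haveI : Finite (V ≃ₗ[ZMod p] V) := Finite.of_injective _ DFunLike.coe_injective
  obtain ⟨w, hw, hw0⟩ := Submodule.exists_mem_ne_zero_of_ne_bot hW.1
  refine isCyclic_of_injective_ringHom (R := commutant hW.2.1)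
    { toFun := fun a => (⟨_, hmem a⟩ : commutant hW.2.1)
      map_one' := Subtype.ext (map_one _)
      map_mul' := fun a b => Subtype.ext (map_mul _ a b) } fun a b e => ?_
  have h : ((a : H) : V ≃ₗ[ZMod p] V) w = ((b : H) : V ≃ₗ[ZMod p] V) w :=
    congrArg (fun r : commutant hW.2.1 => (r.1 ⟨w, hw⟩ : V)) e
  exact Subtype.ext ((hreg w _ hw0
    (fun e' => hw0 (((b : H) : V ≃ₗ[ZMod p] V).map_eq_zero_iff.mp e'))).unique h rfl)

theorem irr_card_dvd [Fact p.Prime] [Finite V] (hreg : Regular H) {A : Subgroup H} [A.Normal]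
    {W : Submodule (ZMod p) V} (hW : Irr A W) :
    Nat.card A ∣ p ^ Module.finrank (ZMod p) W - 1 := by
  rw [← card_setStab hreg hW]
  refine Subgroup.card_dvd_of_le fun a ha v => ⟨fun hv => ?_, hW.2.1 a ha v⟩
  have h := hW.2.1 a⁻¹ (A.inv_mem ha) _ hv
  have e : ((a⁻¹ : H) : V ≃ₗ[ZMod p] V) ((a : V ≃ₗ[ZMod p] V) v) = v := by
    rw [← LinearEquiv.mul_apply, ← Subgroup.coe_mul, inv_mul_cancel]; rfl
  rwa [e] at h

/-- A maximal normal abelian subgroup is cyclic and reducible. -/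
theorem maximal_abelian_data [Fact p.Prime] [Finite V] [Nontrivial V] (hreg : Regular H)
    (hI : ∀ A : Subgroup H, A.Normal → IsCyclic A →
      ∃ W : Submodule (ZMod p) V, W ≠ ⊥ ∧ W ≠ ⊤ ∧ Inv A W)
    (A : Subgroup H) [A.Normal] (hAc : IsMulCommutative A) :
    IsCyclic A ∧ ∃ W : Submodule (ZMod p) V, Irr A W ∧ W ≠ ⊤ := by
  obtain ⟨W, -, hW⟩ := exists_irr A (W := ⊤) (fun _ _ _ _ => trivial) bot_lt_top.ne'
  have hc := isCyclic_of_irr hreg hAc hW
  obtain ⟨W₀, h1, h2, h3⟩ := hI A inferInstance hc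
  obtain ⟨W', hle, hW'⟩ := exists_irr A h3 h1
  exact ⟨hc, W', hW', fun e => h2 (top_le_iff.mp (e ▸ hle))⟩

/-- A maximal normal abelian subgroup has non-abelian centraliser. -/
theorem centralizer_not_comm [Fact p.Prime] [Finite V] [Nontrivial V] (hreg : Regular H)
    (hI : ∀ A : Subgroup H, A.Normal → IsCyclic A →
      ∃ W : Submodule (ZMod p) V, W ≠ ⊥ ∧ W ≠ ⊤ ∧ Inv A W)
    (A : Subgroup H) [A.Normal] (hAc : IsMulCommutative A)
    (hAmax : ∀ B : Subgroup H, B.Normal → IsMulCommutative B → A ≤ B → B = A) :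
    A < Subgroup.centralizer (A : Set H) ∧ ¬ IsMulCommutative (Subgroup.centralizer (A : Set H)) := by
  haveI : Finite (V ≃ₗ[ZMod p] V) := Finite.of_injective _ DFunLike.coe_injective
  have hle : A ≤ Subgroup.centralizer (A : Set H) := fun a ha =>
    Subgroup.mem_centralizer_iff.mpr fun b hb => congrArg Subtype.val (hAc.is_comm.comm ⟨b, hb⟩ ⟨a, ha⟩)
  have key : A ≠ Subgroup.centralizer (A : Set H) := by
    intro heq
    obtain ⟨hc, W, hW, hWtop⟩ := maximal_abelian_data hreg hI A hAc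
    haveI := hc
    haveI : Module.Finite (ZMod p) V := Module.Finite.of_finite
    obtain ⟨d, hd⟩ := finrank_dvd hreg hW
    have hlt := Submodule.finrank_lt hWtop
    have hAd := irr_card_dvd hreg hW
    set k := Module.finrank (ZMod p) W with hk
    have hkpos : 0 < k := by
      haveI := hW.nontrivial
      exact Module.finrank_pos
    have hd2 : 2 ≤ d := by
      by_contra h
      have hV : 0 < Module.finrank (ZMod p) V := Module.finrank_pos
      interval_cases d <;> omega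
    have hp := (Fact.out : p.Prime)
    have hHcard : Nat.card H = p ^ (k * d) - 1 := by
      rw [card_regular hreg, Module.natCard_eq_pow_finrank (K := ZMod p) (V := V), Nat.card_zmod, hd]
    have hidx : A.index ∣ (Nat.card A).totient := by
      rw [← IsCyclic.card_mulAut A, Subgroup.index_eq_card]
      have hker : (MulAut.conjNormal : H →* MulAut A).ker = A := by
        refine le_antisymm (fun g hg => ?_) (fun g hg => ?_)
        · rw [heq]
          refine Subgroup.mem_centralizer_iff.mpr fun a ha => ?_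
          have h := congrArg (fun f : MulAut A => (f ⟨a, ha⟩ : H)) hg
          simp only [MulAut.conjNormal_apply, MulAut.one_apply] at h
          exact (mul_inv_eq_iff_eq_mul.mp h).symm
        · refine MulEquiv.ext fun a => Subtype.ext ?_
          rw [MulAut.conjNormal_apply, MulAut.one_apply]
          have h := Subgroup.mem_centralizer_iff.mp (hle hg) a a.2
          rw [← h, mul_inv_cancel_right]
      have h1 := Subgroup.card_subgroup_dvd_card (MulAut.conjNormal : H →* MulAut A).range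
      rwa [← Subgroup.index_ker, Subgroup.index_eq_card, hker] at h1
    have hA0 : 0 < Nat.card A := Nat.card_pos
    have hAle : Nat.card A ≤ p ^ k - 1 :=
      Nat.le_of_dvd (Nat.sub_pos_of_lt (Nat.one_lt_pow hkpos.ne' hp.one_lt)) hAd
    have hidx' : A.index ≤ Nat.card A :=
      (Nat.le_of_dvd (Nat.totient_pos.mpr hA0) hidx).trans (Nat.totient_le _)
    have h1 : p ^ (k * d) - 1 ≤ (p ^ k - 1) * (p ^ k - 1) := by
      rw [← hHcard, ← A.card_mul_index]
      exact Nat.mul_le_mul hAle (hidx'.trans hAle)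
    have h2 : p ^ k * p ^ k ≤ p ^ (k * d) := by
      rw [← pow_add]; exact Nat.pow_le_pow_right hp.pos (by nlinarith)
    have h3 : 2 ≤ p ^ k := Nat.one_lt_pow hkpos.ne' hp.one_lt
    obtain ⟨c, hc'⟩ : ∃ c, p ^ k = c + 2 := ⟨p ^ k - 2, by omega⟩
    rw [hc'] at h1 h2
    have : (c + 2 - 1) * (c + 2 - 1) + 3 ≤ (c + 2) * (c + 2) := by
      rw [show c + 2 - 1 = c + 1 by omega]; nlinarith
    omega
  refine ⟨lt_of_le_of_ne hle key, fun hcomm => key ?_⟩
  exact (hAmax _ inferInstance hcomm hle).symm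

end Cfsg.Agent.H32
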