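import Mathlib
import Cfsg.Agent.Perm.RegularNormal

/-!
Finite sharply doubly transitive groups have a regular normal elementary abelian subgroup
consisting of the identity and the fixed-point-free elements (elementary proof).
-/

set_option autoImplicit false
set_option linter.style.haveILetI false

namespace Cfsg.Agent.H32

open MulAction

theorem exists_sharply_two_kernel {α : Type*} [Fintype α] [DecidableEq α]
    (G : Subgroup (Equiv.Perm α)) [MulAction.IsMultiplyPretransitive G α 2]
    (hsharp : ∀ x : Fin 2 ↪ α, MulAction.stabilizer G x = ⊥) (h2 : 2 ≤ Fintype.card α) :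
    ∃ (N : Subgroup G) (p j : ℕ), N.Normal ∧ p.Prime ∧ 1 ≤ j ∧ Fintype.card α = p ^ j ∧
      Nat.card N = p ^ j ∧ IsMulCommutative N ∧ (∀ x ∈ N, x ^ p = 1) ∧
      MulAction.IsPretransitive N α ∧ (∀ a : α, MulAction.stabilizer N a = ⊥) ∧
      (∀ g : G, g ∈ N ↔ g = 1 ∨ ∀ a : α, g • a ≠ a) := by
  classical
  haveI hne : Nonempty α := Fintype.card_pos_iff.mp (by omega)
  haveI : Fintype G := Fintype.ofFinite _
  -- a non-identity element fixes at most one point
  have hone : ∀ g : G, g ≠ 1 → ∀ a b : α, g • a = a → g • b = b → a = b := by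
    intro g hg a b ha hb
    by_contra hab
    let x : Fin 2 ↪ α := ⟨![a, b], by
      intro i j h
      fin_cases i <;> fin_cases j <;> simp_all⟩
    have hx : g ∈ stabilizer G x := by
      rw [mem_stabilizer_iff]
      apply Function.Embedding.ext
      intro i
      fin_cases i
      · exact ha
      · exact hb
    rw [hsharp x, Subgroup.mem_bot] at hx
    exact hg hx
  haveI hG2 : IsPretransitive G (Fin 2 ↪ α) := ‹IsMultiplyPretransitive G α 2›
  haveI : IsPretransitive G α := MulAction.isPretransitive_of_is_two_pretransitive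
  -- the group has order n (n - 1)
  have hcardG : Nat.card G = Fintype.card α * (Fintype.card α - 1) := by
    obtain ⟨x⟩ : Nonempty (Fin 2 ↪ α) :=
      Function.Embedding.nonempty_of_card_le (by simpa using h2)
    have hidx := (stabilizer G x).card_mul_index
    rw [@index_stabilizer_of_transitive G (Fin 2 ↪ α) _ _ x ‹IsMultiplyPretransitive G α 2›, hsharp x,
      Subgroup.card_bot, one_mul,
      Nat.card_eq_fintype_card, Fintype.card_embedding_eq, Fintype.card_fin] at hidx
    rw [← hidx]
    simp [Nat.descFactorial_succ, mul_comm]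
  let F : Finset G := Finset.univ.filter fun g => ∀ a : α, g • a ≠ a
  have hF : ∀ g : G, g ∈ F ↔ ∀ a : α, g • a ≠ a := fun g => by simp [F]
  -- orbit counting
  have hcount : F.card = Fintype.card α - 1 := by
    haveI : Fintype (Quotient (orbitRel G α)) := Fintype.ofFinite _
    have hb := MulAction.sum_card_fixedBy_eq_card_orbits_mul_card_group G α
    have hq : Fintype.card (Quotient (orbitRel G α)) = 1 := by
      rw [Fintype.card_eq_one_iff]
      obtain ⟨a⟩ := hne
      refine ⟨Quotient.mk _ a, fun q => ?_⟩
      induction q using Quotient.inductionOn with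
      | h b =>
        obtain ⟨g, hg⟩ := exists_smul_eq G a b
        exact Quotient.sound ⟨g, hg⟩
    rw [hq, one_mul] at hb
    have h1 : ∀ g : G, Fintype.card (fixedBy α g) + (if g ∈ F then 1 else 0) =
        1 + (if g = 1 then Fintype.card α - 1 else 0) := by
      intro g
      by_cases hg : g = 1
      · subst hg
        have hnF : (1 : G) ∉ F := fun h => by
          obtain ⟨a⟩ := hne
          exact (hF 1).mp h a (one_smul G a)
        have : Fintype.card (fixedBy α (1 : G)) = Fintype.card α :=
          Fintype.card_congr (Equiv.subtypeUnivEquiv fun a => one_smul G a)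
        rw [if_neg hnF, if_pos rfl, this]
        omega
      · rw [if_neg hg]
        by_cases hgF : g ∈ F
        · have : IsEmpty (fixedBy α g) := ⟨fun a => (hF g).mp hgF a.1 a.2⟩
          rw [if_pos hgF, Fintype.card_eq_zero]
        · rw [if_neg hgF, add_zero, add_zero, Fintype.card_eq_one_iff]
          rw [hF] at hgF
          push_neg at hgF
          obtain ⟨a, ha⟩ := hgF
          exact ⟨⟨a, ha⟩, fun b => Subtype.ext (hone g hg b a b.2 ha)⟩
    have h3 := Finset.sum_congr rfl (fun g (_ : g ∈ (Finset.univ : Finset G)) => h1 g)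
    rw [Finset.sum_add_distrib, Finset.sum_add_distrib, hb] at h3
    simpa [Finset.sum_ite_mem, Finset.card_univ] using h3
  obtain ⟨x, hxF⟩ : F.Nonempty := Finset.card_pos.mp (by omega)
  rw [hF] at hxF
  have hx1 : x ≠ 1 := fun h => by
    obtain ⟨a⟩ := hne
    exact hxF a (by rw [h, one_smul])
  set C := Subgroup.centralizer ({x} : Set G) with hC
  have hCfix : ∀ c ∈ C, ∀ a : α, c • a = a → c = 1 := by
    intro c hc a ha
    by_contra hc1
    have hcx : c • (x • a) = x • a := by
      rw [smul_smul, ← Subgroup.mem_centralizer_singleton_iff.mp hc |>.symm, mul_smul, ha]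
    exact hxF a (hone c hc1 a (x • a) ha hcx).symm
  obtain ⟨a₀⟩ := id hne
  have hCle : Nat.card C ≤ Fintype.card α := by
    rw [← Nat.card_eq_fintype_card (α := α)]
    refine Nat.card_le_card_of_injective (fun c : C => (c : G) • a₀) fun c d h => ?_
    have := hCfix ((d : G)⁻¹ * c) (C.mul_mem (C.inv_mem d.2) c.2) a₀ (by
      simp only at h
      rw [mul_smul, h, inv_smul_smul])
    exact Subtype.ext (inv_mul_eq_one.mp this).symm
  -- the conjugacy class of `x` is inside `F`
  have hclass : C.index ≤ F.card := by
    have he : C.index = (MulAction.orbit (ConjAct G) x).ncard := by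
      rw [← MulAction.index_stabilizer (G := ConjAct G) (x := x), hC,
        Subgroup.centralizer_eq_comap_stabilizer]
      exact Subgroup.index_comap_of_surjective (f := (ConjAct.toConjAct (G := G)).toMonoidHom) _
        ConjAct.toConjAct.surjective
    rw [he, Set.ncard_eq_toFinset_card']
    refine Finset.card_le_card fun y hy => ?_
    rw [Set.mem_toFinset] at hy
    obtain ⟨g, rfl⟩ := hy
    rw [hF]
    intro a ha
    apply hxF ((ConjAct.ofConjAct g)⁻¹ • a)
    simp only [ConjAct.smul_def] at ha
    rw [mul_smul, mul_smul] at ha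
    rwa [← eq_inv_smul_iff] at ha
  have hCidx := C.card_mul_index
  rw [hcardG] at hCidx
  rw [hcount] at hclass
  have hCcard : Nat.card C = Fintype.card α := by
    refine le_antisymm hCle ?_
    by_contra h
    push_neg at h
    have := Nat.mul_le_mul (Nat.le_sub_one_of_lt h) hclass
    rw [hCidx] at this
    have h' : Fintype.card α * (Fintype.card α - 1) ≤
        (Fintype.card α - 1) * (Fintype.card α - 1) := this
    nlinarith [Nat.sub_add_cancel (show 1 ≤ Fintype.card α by omega)]
  -- `C` consists of the identity and the fixed point free elements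
  have hmem : ∀ g : G, g ∈ C ↔ g = 1 ∨ ∀ a : α, g • a ≠ a := by
    have hsub : (C : Set G).toFinset ⊆ insert 1 F := by
      intro g hg
      rw [Set.mem_toFinset, SetLike.mem_coe] at hg
      rw [Finset.mem_insert, hF]
      by_contra h
      push_neg at h
      obtain ⟨hg1, a, ha⟩ := h
      exact hg1 (hCfix g hg a ha)
    have heq : (C : Set G).toFinset = insert 1 F := by
      refine Finset.eq_of_subset_of_card_le hsub ?_
      rw [Set.toFinset_card, ← Nat.card_eq_fintype_card]
      change (insert 1 F).card ≤ Nat.card C
      rw [hCcard]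
      refine (Finset.card_insert_le _ _).trans ?_
      omega
    intro g
    rw [← SetLike.mem_coe, ← Set.mem_toFinset, heq, Finset.mem_insert, hF]
  have hCn : C.Normal := ⟨fun g hg u => by
    rcases (hmem g).mp hg with h | h
    · rw [h, mul_one, mul_inv_cancel]
      exact C.one_mem
    · rw [hmem]
      right
      intro a ha
      rw [mul_smul, mul_smul, ← eq_inv_smul_iff] at ha
      exact h _ ha⟩
  have hfree : ∀ a : α, stabilizer C a = ⊥ := fun a => eq_bot_iff.mpr fun c hc =>
    Subgroup.mem_bot.mpr (Subtype.ext (hCfix c c.2 a hc))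
  obtain ⟨hab, p, hp, hexp⟩ := Cfsg.Agent.Perm.regular_normal_elementary
    (G := G) (X := α) inferInstance C hfree
  obtain ⟨j, hj⟩ := Cfsg.Agent.Perm.card_prime_pow_of_exp hp hexp
  have htrans : IsPretransitive C α := by
    rw [MulAction.isPretransitive_iff_orbit_eq_univ a₀]
    apply Set.eq_univ_of_forall
    have hb : Function.Bijective (fun c : C => (c : G) • a₀) :=
      (Fintype.bijective_iff_injective_and_card _).mpr ⟨fun c d h => by
        have := hCfix ((d : G)⁻¹ * c) (C.mul_mem (C.inv_mem d.2) c.2) a₀ (by
          simp only at h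
          rw [mul_smul, h, inv_smul_smul])
        exact Subtype.ext (inv_mul_eq_one.mp this).symm,
        by rw [← Nat.card_eq_fintype_card, hCcard]⟩
    intro z
    obtain ⟨c, hc⟩ := hb.2 z
    exact ⟨c, hc⟩
  refine ⟨C, p, j, hCn, hp, ?_, hCcard.symm.trans hj, hj, hab, hexp, htrans, hfree, hmem⟩
  rcases Nat.eq_zero_or_pos j with h | h
  · rw [h, pow_zero, hCcard] at hj
    omega
  · exact h

end Cfsg.Agent.H32
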