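import Mathlib

/-!
Certificates for small subgroups of `GL(2,p)`, with elements coded as quadruples of entries:
order and regularity on the non-zero vectors.
-/

set_option autoImplicit false

namespace Cfsg.Agent.H32

/-- A `2 × 2` matrix as a quadruple of entries. -/
abbrev Quad (p : ℕ) := ZMod p × ZMod p × ZMod p × ZMod p

variable {p : ℕ}

def quadMul (x y : Quad p) : Quad p :=
  (x.1 * y.1 + x.2.1 * y.2.2.1, x.1 * y.2.1 + x.2.1 * y.2.2.2,
    x.2.2.1 * y.1 + x.2.2.2 * y.2.2.1, x.2.2.1 * y.2.1 + x.2.2.2 * y.2.2.2)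

def quadOne : Quad p := (1, 0, 0, 1)

def quadScale (c : ZMod p) (x : Quad p) : Quad p :=
  (c * x.1, c * x.2.1, c * x.2.2.1, c * x.2.2.2)

/-- The code of an invertible matrix. -/
def quadOf (g : Matrix.GeneralLinearGroup (Fin 2) (ZMod p)) : Quad p :=
  ((g : Matrix (Fin 2) (Fin 2) (ZMod p)) 0 0, (g : Matrix (Fin 2) (Fin 2) (ZMod p)) 0 1,
    (g : Matrix (Fin 2) (Fin 2) (ZMod p)) 1 0, (g : Matrix (Fin 2) (Fin 2) (ZMod p)) 1 1)

theorem quadOf_injective : Function.Injective (quadOf (p := p)) := by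
  intro g h e
  simp only [quadOf, Prod.mk.injEq] at e
  ext i j
  fin_cases i <;> fin_cases j
  · exact e.1
  · exact e.2.1
  · exact e.2.2.1
  · exact e.2.2.2

theorem quadOf_one : quadOf (1 : Matrix.GeneralLinearGroup (Fin 2) (ZMod p)) = quadOne := by
  simp [quadOf, quadOne]

theorem quadOf_mul (g h : Matrix.GeneralLinearGroup (Fin 2) (ZMod p)) :
    quadOf (g * h) = quadMul (quadOf g) (quadOf h) := by
  simp [quadOf, quadMul, Matrix.mul_apply, Fin.sum_univ_two]

theorem quadOf_eq {g : Matrix.GeneralLinearGroup (Fin 2) (ZMod p)} {a b c d : ZMod p}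
    (h : (g : Matrix (Fin 2) (Fin 2) (ZMod p)) = !![a, b; c, d]) : quadOf g = (a, b, c, d) := by
  simp [quadOf, h]

/-- The first standard vector. -/
def stdVec (p : ℕ) : Fin 2 → ZMod p := ![1, 0]

theorem mulVec_stdVec (g : Matrix.GeneralLinearGroup (Fin 2) (ZMod p)) :
    Matrix.mulVec (g : Matrix (Fin 2) (Fin 2) (ZMod p)) (stdVec p) =
      ![(quadOf g).1, (quadOf g).2.2.1] := by
  funext i
  fin_cases i <;> simp [quadOf, stdVec, Matrix.mulVec, dotProduct]

/-- Duplicate check, by structural recursion. -/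
def nodupCheck : List (Quad p) → Bool
  | [] => true
  | q :: l => !(l.contains q) && nodupCheck l

theorem nodup_of_check : ∀ {l : List (Quad p)}, nodupCheck l = true → l.Nodup
  | [], _ => List.nodup_nil
  | q :: l, h => by
    simp only [nodupCheck, Bool.and_eq_true, Bool.not_eq_true', List.contains_eq_mem,
      decide_eq_false_iff_not] at h
    exact List.nodup_cons.mpr ⟨h.1, nodup_of_check h.2⟩

/-- Closure check under right multiplication, as a Boolean fold. -/
def closedCheck (gens L : List (Quad p)) : Bool :=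
  L.all fun q => gens.all fun s => L.contains (quadMul q s)

theorem closed_of_check {gens L : List (Quad p)} (h : closedCheck gens L = true) :
    ∀ q ∈ L, ∀ s ∈ gens, quadMul q s ∈ L := by
  intro q hq s hs
  simpa using (List.all_eq_true.mp ((List.all_eq_true.mp h) q hq)) s hs

/-- The `(i+1)`-st element is an earlier one times a generator, as recorded by the `i`-th step. -/
def stepCheck (gens L : List (Quad p)) (l : List (ℕ × ℕ)) : Bool :=
  (List.range l.length).all fun i =>
    decide ((l.getD i (0, 0)).1 ≤ i) &&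
      (L.getD (i + 1) quadOne ==
        quadMul (L.getD (l.getD i (0, 0)).1 quadOne) (gens.getD (l.getD i (0, 0)).2 quadOne))

theorem realised_of_check {gens L : List (Quad p)} {l : List (ℕ × ℕ)}
    {H : Submonoid (Matrix.GeneralLinearGroup (Fin 2) (ZMod p))}
    (hgens : ∀ q ∈ gens, ∃ g ∈ H, quadOf g = q) (hhead : L.getD 0 quadOne = quadOne)
    (hlen : L.length = l.length + 1) (hcheck : stepCheck gens L l = true) :
    ∀ q ∈ L, ∃ g ∈ H, quadOf g = q := by
  have key : ∀ i, i < L.length → ∃ g ∈ H, quadOf g = L.getD i quadOne := by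
    intro i
    induction i using Nat.strong_induction_on with
    | _ i ih =>
      intro hi
      rcases i with _ | i
      · exact ⟨1, H.one_mem, by rw [quadOf_one, hhead]⟩
      have hil : i < l.length := by omega
      have h := (List.all_eq_true.mp hcheck) i (List.mem_range.mpr hil)
      simp only [Bool.and_eq_true, decide_eq_true_eq, beq_iff_eq] at h
      obtain ⟨g, hg, hge⟩ := ih _ (Nat.lt_succ_of_le h.1) (by omega)
      obtain ⟨g', hg', hge'⟩ : ∃ g ∈ H, quadOf g = gens.getD (l.getD i (0, 0)).2 quadOne := by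
        rcases Nat.lt_or_ge (l.getD i (0, 0)).2 gens.length with hk | hk
        · rw [List.getD_eq_getElem _ _ hk]; exact hgens _ (List.getElem_mem hk)
        · rw [List.getD_eq_default _ _ hk]; exact ⟨1, H.one_mem, quadOf_one⟩
      exact ⟨g * g', H.mul_mem hg hg', by rw [quadOf_mul, hge, hge', h.2]⟩
  intro q hq
  obtain ⟨i, hi, rfl⟩ := List.getElem_of_mem hq
  rw [← List.getD_eq_getElem _ quadOne hi]
  exact key i hi

/-- A finite subgroup generated by `S`, with a list of codes closed under right multiplication. -/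
theorem quad_mem_of_closure [Fact p.Prime] {S : Set (Matrix.GeneralLinearGroup (Fin 2) (ZMod p))}
    {gens L : List (Quad p)} (hS : ∀ s ∈ S, quadOf s ∈ gens) (hone : quadOne ∈ L)
    (hclosed : ∀ q ∈ L, ∀ s ∈ gens, quadMul q s ∈ L) :
    ∀ g ∈ Subgroup.closure S, quadOf g ∈ L := by
  intro g hg
  have hg' : g ∈ Submonoid.closure S := by
    rw [← Subgroup.closure_toSubmonoid_of_finite]; exact hg
  induction hg' using Submonoid.closure_induction_right with
  | one => rw [quadOf_one]; exact hone
  | mul_right x hx y hy ih =>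
    rw [quadOf_mul]
    exact hclosed _ (ih (by
      rw [← Subgroup.closure_toSubmonoid_of_finite] at hx; exact hx)) _ (hS y hy)

/-- The certificate theorem: a list of `L.length` codes times `m` powers of a scalar. -/
theorem closure_regular [Fact p.Prime] (S : Set (Matrix.GeneralLinearGroup (Fin 2) (ZMod p)))
    (Z : Matrix.GeneralLinearGroup (Fin 2) (ZMod p)) (z : ZMod p) (gens L : List (Quad p))
    (l : List (ℕ × ℕ)) (m : ℕ) (hm : 0 < m) (hhead : L.getD 0 quadOne = quadOne)
    (hlen : L.length = l.length + 1) (hcheck : stepCheck gens L l = true)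
    (hS : ∀ s ∈ S, quadOf s ∈ gens) (hgens : ∀ q ∈ gens, ∃ s ∈ S, quadOf s = q)
    (hz : quadOf Z = (z, 0, 0, z)) (hzm : z ^ m = 1)
    (hclosed : ∀ q ∈ L, ∀ s ∈ gens, quadMul q s ∈ L)
    (hnd : L.Nodup)
    (hstab : ∀ k ∈ List.range m, ∀ q ∈ L,
      z ^ k * q.1 = 1 → z ^ k * q.2.2.1 = 0 → q = quadOne ∧ k = 0)
    (hcard : m * L.length = p * p - 1) :
    Nat.card (Subgroup.closure (S ∪ {Z})) = p * p - 1 ∧
      ∀ v w : Fin 2 → ZMod p, v ≠ 0 → w ≠ 0 → ∃! h : Subgroup.closure (S ∪ {Z}),
        Matrix.mulVec ((h : Matrix.GeneralLinearGroup (Fin 2) (ZMod p)) :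
          Matrix (Fin 2) (Fin 2) (ZMod p)) v = w := by
  classical
  have hone : quadOne ∈ L := by
    have h0 : 0 < L.length := by omega
    have := List.getElem_mem h0
    rwa [← List.getD_eq_getElem _ quadOne h0, hhead] at this
  set H₀ := Subgroup.closure S with hH₀
  set H := Subgroup.closure (S ∪ {Z}) with hH
  have hH₀H : H₀ ≤ H := Subgroup.closure_mono Set.subset_union_left
  have hZH : Z ∈ H := Subgroup.subset_closure (Set.mem_union_right _ rfl)
  have hreal : ∀ q ∈ L, ∃ g ∈ H₀, quadOf g = q := by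
    have := realised_of_check (H := H₀.toSubmonoid)
      (fun q hq => by
        obtain ⟨s, hs, he⟩ := hgens q hq
        exact ⟨s, Subgroup.subset_closure hs, he⟩) hhead hlen hcheck
    exact this
  have hcodes : ∀ g ∈ H₀, quadOf g ∈ L := quad_mem_of_closure hS hone hclosed
  have hscale : ∀ (g : Matrix.GeneralLinearGroup (Fin 2) (ZMod p)) (k : ℕ),
      quadOf (Z ^ k * g) = quadScale (z ^ k) (quadOf g) := by
    intro g k
    induction k with
    | zero => simp [quadScale]
    | succ k ih =>
      rw [pow_succ', mul_assoc, quadOf_mul, ih, hz]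
      simp [quadMul, quadScale, pow_succ', mul_assoc]
  have hZc : ∀ g, Commute Z g := by
    intro g
    apply quadOf_injective
    rw [quadOf_mul, quadOf_mul, hz]
    simp [quadMul, mul_comm]
  have hZm : Z ^ m = 1 := by
    apply quadOf_injective
    rw [← mul_one (Z ^ m), hscale, hzm, quadOf_one]
    simp [quadScale, quadOne]
  -- every element is a scalar power times an element of `H₀`
  have hdec : ∀ g ∈ H, ∃ k < m, ∃ g₀ ∈ H₀, g = Z ^ k * g₀ := by
    intro g hg
    have hg' : g ∈ Submonoid.closure (S ∪ {Z}) := by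
      rw [← Subgroup.closure_toSubmonoid_of_finite]; exact hg
    induction hg' using Submonoid.closure_induction_right with
    | one => exact ⟨0, hm, 1, H₀.one_mem, by simp⟩
    | mul_right x hx y hy ih =>
      obtain ⟨k, hk, g₀, hg₀, rfl⟩ := ih (by
        rw [← Subgroup.closure_toSubmonoid_of_finite] at hx; exact hx)
      rcases hy with hy | hy
      · exact ⟨k, hk, g₀ * y, H₀.mul_mem hg₀ (Subgroup.subset_closure hy), mul_assoc _ _ _⟩
      · rw [Set.mem_singleton_iff] at hy
        subst hy
        refine ⟨(k + 1) % m, Nat.mod_lt _ hm, g₀, hg₀, ?_⟩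
        rw [← pow_eq_pow_mod _ hZm, pow_succ, mul_assoc, mul_assoc, (hZc g₀).eq]
  -- the stabiliser of the standard vector is trivial
  have hfix : ∀ g ∈ H, Matrix.mulVec (g : Matrix (Fin 2) (Fin 2) (ZMod p)) (stdVec p) = stdVec p →
      g = 1 := by
    intro g hg hgv
    obtain ⟨k, hk, g₀, hg₀, rfl⟩ := hdec g hg
    rw [mulVec_stdVec, hscale] at hgv
    have h0 := congrFun hgv 0
    have h1 := congrFun hgv 1
    simp only [quadScale, stdVec, Matrix.cons_val_zero, Matrix.cons_val_one] at h0 h1
    obtain ⟨hq, hk0⟩ := hstab k (List.mem_range.mpr hk) _ (hcodes g₀ hg₀) h0 h1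
    rw [← quadOf_one] at hq
    rw [hk0, quadOf_injective hq, pow_zero, mul_one]
  -- the order
  have hle : p * p - 1 ≤ Nat.card H := by
    rw [← hcard]
    choose g hg hge using fun i : Fin L.length => hreal _ (List.getElem_mem i.2)
    have hinj : Function.Injective (fun x : Fin m × Fin L.length =>
        (⟨Z ^ (x.1 : ℕ) * g x.2, H.mul_mem (H.pow_mem hZH _) (hH₀H (hg x.2))⟩ : H)) := by
      rintro ⟨k, i⟩ ⟨k', i'⟩ e
      simp only [Subtype.mk.injEq] at e
      have key : ∀ (k k' : ℕ) (u u' : Matrix.GeneralLinearGroup (Fin 2) (ZMod p)),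
          k ≤ k' → k' < m → u ∈ H₀ → u' ∈ H₀ → Z ^ k * u = Z ^ k' * u' → u = u' ∧ k = k' := by
        intro k k' u u' hkk hk' hu hu' he
        obtain ⟨d, rfl⟩ := Nat.exists_eq_add_of_le hkk
        rw [pow_add, mul_assoc] at he
        have he' := mul_left_cancel he
        have hw : Z ^ d * (u' * u⁻¹) = 1 := by rw [← mul_assoc, ← he', mul_inv_cancel]
        have hc := hcodes _ (H₀.mul_mem hu' (H₀.inv_mem hu))
        have hq := congrArg quadOf hw
        rw [hscale, quadOf_one] at hq
        simp only [quadScale, quadOne, Prod.mk.injEq] at hq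
        obtain ⟨hone', hd⟩ := hstab d (List.mem_range.mpr (by omega)) _ hc hq.1 hq.2.2.1
        rw [← quadOf_one] at hone'
        exact ⟨(mul_inv_eq_one.mp (quadOf_injective hone')).symm, by omega⟩
      rcases le_total (k : ℕ) k' with h | h
      · obtain ⟨h1, h2⟩ := key _ _ _ _ h k'.2 (hg i) (hg i') e
        have h3 := congrArg quadOf h1
        rw [hge, hge] at h3
        exact Prod.ext (Fin.ext h2) (Fin.ext ((List.Nodup.getElem_inj_iff hnd).mp h3))
      · obtain ⟨h1, h2⟩ := key _ _ _ _ h k.2 (hg i') (hg i) e.symm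
        have h3 := congrArg quadOf h1
        rw [hge, hge] at h3
        exact Prod.ext (Fin.ext h2.symm) (Fin.ext ((List.Nodup.getElem_inj_iff hnd).mp h3).symm)
    simpa using Nat.card_le_card_of_injective _ hinj
  -- the orbit map
  let f : H → {v : Fin 2 → ZMod p // v ≠ 0} := fun h =>
    ⟨Matrix.mulVec ((h : Matrix.GeneralLinearGroup (Fin 2) (ZMod p)) :
      Matrix (Fin 2) (Fin 2) (ZMod p)) (stdVec p), fun e => by
        have := congrArg (Matrix.mulVec (((h : Matrix.GeneralLinearGroup (Fin 2) (ZMod p))⁻¹ :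
          Matrix.GeneralLinearGroup (Fin 2) (ZMod p)) : Matrix (Fin 2) (Fin 2) (ZMod p))) e
        rw [Matrix.mulVec_mulVec, ← Units.val_mul, inv_mul_cancel, Units.val_one, Matrix.one_mulVec,
          Matrix.mulVec_zero] at this
        exact one_ne_zero (congrFun this 0)⟩
  have hfinj : Function.Injective f := by
    intro h h' e
    have e' := congrArg (Matrix.mulVec (((h' : Matrix.GeneralLinearGroup (Fin 2) (ZMod p))⁻¹ :
      Matrix.GeneralLinearGroup (Fin 2) (ZMod p)) : Matrix (Fin 2) (Fin 2) (ZMod p)))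
      (congrArg Subtype.val e)
    simp only [f] at e'
    rw [Matrix.mulVec_mulVec, Matrix.mulVec_mulVec, ← Units.val_mul, ← Units.val_mul, inv_mul_cancel,
      Units.val_one, Matrix.one_mulVec] at e'
    have := hfix _ (H.mul_mem (H.inv_mem h'.2) h.2) e'
    exact Subtype.ext (inv_mul_eq_one.mp this).symm
  have hV : Nat.card {v : Fin 2 → ZMod p // v ≠ 0} = p * p - 1 := by
    rw [Nat.card_eq_fintype_card, Fintype.card_subtype_compl]
    simp [pow_two]
  have hcardH : Nat.card H = p * p - 1 :=
    le_antisymm (hV ▸ Nat.card_le_card_of_injective f hfinj) hle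
  refine ⟨hcardH, fun v w hv hw => ?_⟩
  have hfb : Function.Bijective f :=
    hfinj.bijective_of_nat_card_le (by rw [hV, hcardH])
  obtain ⟨a, ha⟩ := hfb.2 ⟨v, hv⟩
  obtain ⟨b, hb⟩ := hfb.2 ⟨w, hw⟩
  have ha' := congrArg Subtype.val ha
  have hb' := congrArg Subtype.val hb
  simp only [f] at ha' hb'
  refine ⟨b * a⁻¹, ?_, fun h hh => ?_⟩
  · show Matrix.mulVec (((b * a⁻¹ : H) : Matrix.GeneralLinearGroup (Fin 2) (ZMod p)) :
      Matrix (Fin 2) (Fin 2) (ZMod p)) v = w
    conv_lhs => rw [← ha']
    rw [Matrix.mulVec_mulVec, ← Units.val_mul, ← Subgroup.coe_mul, inv_mul_cancel_right, hb']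
  · rw [eq_mul_inv_iff_mul_eq]
    apply hfinj
    apply Subtype.ext
    show Matrix.mulVec (((h * a : H) : Matrix.GeneralLinearGroup (Fin 2) (ZMod p)) :
      Matrix (Fin 2) (Fin 2) (ZMod p)) (stdVec p) = _
    simp only at hh
    rw [Subgroup.coe_mul, Units.val_mul, ← Matrix.mulVec_mulVec, ha', hh]
    exact hb'.symm

end Cfsg.Agent.H32
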