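import Mathlib
import Cfsg.Prelude.Def_Local
import Cfsg.Agent.Cores.Constrained

/-!
The upper `p`-series: centraliser of the `p`-factors and the bound of the `p`-length by the class
of a Sylow `p`-subgroup.
-/

set_option autoImplicit false
set_option linter.style.haveILetI false

namespace Cfsg.Agent.H32

open Subgroup

variable {G : Type*} [Group G] {p : ℕ}

theorem pPrime_step_eq {A : Type*} [Group A] [Finite G] [Finite A] (π : G →* A)
    (hπ : Function.Surjective π) {N : Subgroup G} [N.Normal] (hN : π.ker = N) :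
    (pPrimeCore p (G ⧸ N)).comap (QuotientGroup.mk' N) = (pPrimeCore p A).comap π := by
  subst hN
  let e := QuotientGroup.quotientKerEquivOfSurjective π hπ
  rw [← Cores.pPrimeCore_map_mulEquiv e]
  ext g
  show QuotientGroup.mk' π.ker g ∈ pPrimeCore p (G ⧸ π.ker) ↔ e.toMonoidHom (QuotientGroup.mk' π.ker g) ∈ (pPrimeCore p (G ⧸ π.ker)).map e.toMonoidHom
  exact (Subgroup.mem_map_iff_mem (f := e.toMonoidHom) e.injective).symm

theorem p_step_eq {A : Type*} [Group A] (π : G →* A)
    (hπ : Function.Surjective π) {N : Subgroup G} [N.Normal] (hN : π.ker = N) :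
    (pCore p (G ⧸ N)).comap (QuotientGroup.mk' N) = (pCore p A).comap π := by
  subst hN
  let e := QuotientGroup.quotientKerEquivOfSurjective π hπ
  rw [← Cores.pCore_map_mulEquiv e]
  ext g
  show QuotientGroup.mk' π.ker g ∈ pCore p (G ⧸ π.ker) ↔ e.toMonoidHom (QuotientGroup.mk' π.ker g) ∈ (pCore p (G ⧸ π.ker)).map e.toMonoidHom
  exact (Subgroup.mem_map_iff_mem (f := e.toMonoidHom) e.injective).symm

theorem pPrimeCore_eq_bot_of_ker [Finite G] {A : Type*} [Group A] [Finite A] (π : G →* A)
    (hπ : Function.Surjective π) (hk : π.ker = pPrimeCore p G) : pPrimeCore p A = ⊥ := by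
  let e := (QuotientGroup.quotientMulEquivOfEq hk.symm).trans
    (QuotientGroup.quotientKerEquivOfSurjective π hπ)
  rw [← Cores.pPrimeCore_map_mulEquiv e, Cores.pPrimeCore_quotient_pPrimeCore, Subgroup.map_bot]

theorem upperPSeries_succ_of_even {n : ℕ} (hn : Even n) :
    (upperPSeries p G (n + 1)).1 = (pPrimeCore p (G ⧸ (upperPSeries p G n).1)).comap
      (QuotientGroup.mk' (upperPSeries p G n).1) := by
  rw [upperPSeries]
  simp [hn]

theorem upperPSeries_succ_of_odd {n : ℕ} (hn : ¬ Even n) :
    (upperPSeries p G (n + 1)).1 = (pCore p (G ⧸ (upperPSeries p G n).1)).comap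
      (QuotientGroup.mk' (upperPSeries p G n).1) := by
  rw [upperPSeries]
  simp [hn]

theorem upperPSeries_le_succ (n : ℕ) :
    (upperPSeries p G n).1 ≤ (upperPSeries p G (n + 1)).1 := by
  by_cases hn : Even n
  · rw [upperPSeries_succ_of_even hn]
    conv_lhs => rw [← QuotientGroup.ker_mk' (upperPSeries p G n).1]
    exact Subgroup.ker_le_comap _ _
  · rw [upperPSeries_succ_of_odd hn]
    conv_lhs => rw [← QuotientGroup.ker_mk' (upperPSeries p G n).1]
    exact Subgroup.ker_le_comap _ _

theorem upperPSeries_monotone : Monotone fun n => (upperPSeries p G n).1 :=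
  monotone_nat_of_le_succ upperPSeries_le_succ

theorem pPrimeCore_quotient_odd [Finite G] (k : ℕ) :
    pPrimeCore p (G ⧸ (upperPSeries p G (2 * k + 1)).1) = ⊥ := by
  have hle := upperPSeries_le_succ (p := p) (G := G) (2 * k)
  refine pPrimeCore_eq_bot_of_ker (G := G ⧸ (upperPSeries p G (2 * k)).1)
    (QuotientGroup.map _ (upperPSeries p G (2 * k + 1)).1 (MonoidHom.id G) (hle.trans_eq (Subgroup.comap_id _).symm)) ?_ ?_
  · intro x
    induction x using QuotientGroup.induction_on with
    | H g => exact ⟨QuotientGroup.mk g, rfl⟩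
  · rw [QuotientGroup.ker_map, Subgroup.comap_id, upperPSeries_succ_of_even (by simp),
      Subgroup.map_comap_eq_self_of_surjective (QuotientGroup.mk'_surjective _)]

theorem map_p_factor (k : ℕ) :
    (upperPSeries p G (2 * k + 2)).1.map (QuotientGroup.mk' (upperPSeries p G (2 * k + 1)).1) =
      pCore p (G ⧸ (upperPSeries p G (2 * k + 1)).1) := by
  conv_lhs => arg 2; rw [upperPSeries_succ_of_odd (by simp [parity_simps])]
  exact Subgroup.map_comap_eq_self_of_surjective (QuotientGroup.mk'_surjective _) _

theorem upperPSeries_shift [Finite G] {A : Type*} [Group A] [Finite A] (π : G →* A)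
    (hπ : Function.Surjective π) (hk : π.ker = (upperPSeries p G 2).1) :
    ∀ n, (upperPSeries p A n).1.comap π = (upperPSeries p G (n + 2)).1 := by
  intro n
  induction n with
  | zero =>
    show (⊥ : Subgroup A).comap π = _
    rw [MonoidHom.comap_bot, hk]
  | succ n ih =>
    have hker : ((QuotientGroup.mk' (upperPSeries p A n).1).comp π).ker =
        (upperPSeries p G (n + 2)).1 := by
      rw [← MonoidHom.comap_ker, QuotientGroup.ker_mk', ih]
    have hsurj : Function.Surjective ((QuotientGroup.mk' (upperPSeries p A n).1).comp π) :=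
      (QuotientGroup.mk'_surjective _).comp hπ
    by_cases hn : Even n
    · rw [upperPSeries_succ_of_even (G := A) hn, show n + 1 + 2 = n + 2 + 1 from rfl,
        upperPSeries_succ_of_even (G := G) (hn.add even_two), pPrime_step_eq _ hsurj hker,
        Subgroup.comap_comap]
    · rw [upperPSeries_succ_of_odd (G := A) hn, show n + 1 + 2 = n + 2 + 1 from rfl,
        upperPSeries_succ_of_odd (G := G) (by simpa [parity_simps] using hn),
        p_step_eq _ hsurj hker, Subgroup.comap_comap]

theorem upperPSeries_one [Finite G] : (upperPSeries p G 1).1 = pPrimeCore p G := by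
  rw [upperPSeries_succ_of_even (n := 0) (by simp)]
  refine (pPrime_step_eq (MonoidHom.id G) Function.surjective_id ?_).trans (Subgroup.comap_id _)
  show _ = (⊥ : Subgroup G)
  exact (MonoidHom.ker_eq_bot_iff _).mpr Function.injective_id

/-- The centre of a Sylow `p`-subgroup of a `p`-solvable group lies in the second term. -/
theorem center_sylow_le_two [Finite G] [Fact p.Prime] (hs : IsPSolvable p G) (S : Sylow p G) :
    (Subgroup.center (S : Subgroup G)).map (S : Subgroup G).subtype ≤ (upperPSeries p G 2).1 := by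
  rintro _ ⟨z, hz, rfl⟩
  rw [upperPSeries_succ_of_odd (n := 1) (by simp), Subgroup.mem_comap]
  have hs' : IsPSolvable p (G ⧸ (upperPSeries p G 1).1) := Cores.isPSolvable_quotient hs _
  have hbot : pPrimeCore p (G ⧸ (upperPSeries p G 1).1) = ⊥ := pPrimeCore_quotient_odd 0
  refine Cores.centralizer_pCore_le hs' hbot ?_
  rw [Subgroup.mem_centralizer_iff]
  intro u hu
  obtain ⟨s, hs1, rfl⟩ := Cores.pCore_le_sylow
    (S.mapSurjective (QuotientGroup.mk'_surjective (upperPSeries p G 1).1)) hu
  rw [← map_mul, ← map_mul]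
  exact congrArg _ (congrArg Subtype.val (Subgroup.mem_center_iff.mp hz ⟨s, hs1⟩))

theorem pLengthLE_of_class [Fact p.Prime] :
    ∀ (c : ℕ) (G : Type*) [Group G] [Finite G], IsPSolvable p G → ∀ S : Sylow p G,
      Group.nilpotencyClass (S : Subgroup G) ≤ c → PLengthLE p c G := by
  intro c
  induction c with
  | zero =>
    intro G _ _ _ S hS
    haveI : Group.IsNilpotent (S : Subgroup G) := S.2.isNilpotent
    have hsub : Subsingleton (S : Subgroup G) :=
      Group.nilpotencyClass_zero_iff_subsingleton.mp (Nat.le_zero.mp hS)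
    show (upperPSeries p G (2 * 0 + 1)).1 = ⊤
    rw [upperPSeries_one, Cores.pPrimeCore_eq_top_iff]
    have h1 : Nat.card (S : Subgroup G) = 1 := Nat.card_of_subsingleton 1
    have h2 := S.not_dvd_index
    rw [← (S : Subgroup G).card_mul_index, h1, one_mul]
    exact ((Fact.out : p.Prime).coprime_iff_not_dvd.mpr h2).symm
  | succ c ih =>
    intro G _ _ hs S hS
    haveI : Group.IsNilpotent (S : Subgroup G) := S.2.isNilpotent
    let π := QuotientGroup.mk' (upperPSeries p G 2).1
    have hπ : Function.Surjective π := QuotientGroup.mk'_surjective _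
    let S' := S.mapSurjective hπ
    let φ : (S : Subgroup G) →* (S' : Subgroup (G ⧸ (upperPSeries p G 2).1)) :=
      π.subgroupMap (S : Subgroup G)
    have hφ : Function.Surjective φ := π.subgroupMap_surjective _
    have hker : Subgroup.center (S : Subgroup G) ≤ φ.ker := by
      intro z hz
      rw [MonoidHom.mem_ker]
      exact Subtype.ext ((QuotientGroup.eq_one_iff _).mpr (center_sylow_le_two hs S ⟨z, hz, rfl⟩))
    let ψ := QuotientGroup.lift (Subgroup.center (S : Subgroup G)) φ hker
    have hψ : Function.Surjective ψ := fun y => by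
      obtain ⟨x, hx⟩ := hφ y
      exact ⟨QuotientGroup.mk x, hx⟩
    have hc : Group.nilpotencyClass (S' : Subgroup (G ⧸ (upperPSeries p G 2).1)) ≤ c := by
      refine (Group.nilpotencyClass_le_of_surjective ψ hψ).trans ?_
      have := Group.nilpotencyClass_quotient_center (G := (S : Subgroup G))
      omega
    have h := ih (G ⧸ (upperPSeries p G 2).1) (Cores.isPSolvable_quotient hs _) S' hc
    show (upperPSeries p G (2 * (c + 1) + 1)).1 = ⊤
    rw [show 2 * (c + 1) + 1 = 2 * c + 1 + 2 by ring,
      ← upperPSeries_shift π hπ (QuotientGroup.ker_mk' _), h, Subgroup.comap_top]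

end Cfsg.Agent.H32
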